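import Mathlib

/-! Von Neumann regular rings attached to residue fields in Abhyankar's lemma. -/

set_option autoImplicit false
set_option linter.all false
universe u
open TensorProduct Polynomial

noncomputable section

namespace Groth.Agent.TameAbh

/-- Every element generates an ideal generated by an idempotent. -/
def IsVNR (R : Type u) [CommRing R] : Prop := ∀ z : R, ∃ c : R, z = z * z * c

theorem IsVNR.isReduced {R : Type u} [CommRing R] (h : IsVNR R) : _root_.IsReduced R := by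
  rw [isReduced_iff_pow_one_lt 2 (by norm_num)]
  intro z hz
  obtain ⟨c, hc⟩ := h z
  rw [hc, ← pow_two, hz, zero_mul]

theorem IsVNR.of_surjective {R S : Type u} [CommRing R] [CommRing S] (f : R →+* S)
    (hf : Function.Surjective f) (h : IsVNR R) : IsVNR S := fun z => by
  obtain ⟨x, rfl⟩ := hf z
  obtain ⟨c, hc⟩ := h x
  exact ⟨f c, by rw [← map_mul, ← map_mul, ← hc]⟩

/-- A reduced ring integral over a field is von Neumann regular. -/
theorem isVNR_of_integral {k R : Type u} [Field k] [CommRing R] [_root_.IsReduced R] (f : k →+* R)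
    (hf : f.IsIntegral) : IsVNR R := by
  intro z
  obtain ⟨p, hp, hz⟩ := hf z
  obtain ⟨q, hpq, hq⟩ := Polynomial.exists_eq_pow_rootMultiplicity_mul_and_not_dvd p hp.ne_zero 0
  rw [map_zero, sub_zero] at hpq hq
  set m := p.rootMultiplicity 0
  have hq0 : q.coeff 0 ≠ 0 := fun h => hq (X_dvd_iff.2 h)
  rw [hpq, eval₂_mul, eval₂_X_pow, ← X_mul_divX_add q, eval₂_add, eval₂_mul, eval₂_X, eval₂_C] at hz
  set r := eval₂ f z q.divX
  refine ⟨-(r * f (q.coeff 0)⁻¹), ?_⟩
  have hunit : f (q.coeff 0) * f (q.coeff 0)⁻¹ = 1 := by rw [← map_mul, mul_inv_cancel₀ hq0, map_one]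
  have h1 : z ^ m * (1 + z * (r * f (q.coeff 0)⁻¹)) = 0 := by
    calc z ^ m * (1 + z * (r * f (q.coeff 0)⁻¹))
        = z ^ m * (z * r + f (q.coeff 0)) * f (q.coeff 0)⁻¹ := by rw [← hunit]; ring
      _ = 0 := by rw [hz, zero_mul]
  have h2 : (z * (1 + z * (r * f (q.coeff 0)⁻¹))) ^ (m + 1) = 0 := by
    rw [mul_pow, pow_succ z, pow_succ']
    linear_combination (z * (1 + z * (r * f (q.coeff 0)⁻¹)) ^ m) * h1
  linear_combination (IsReduced.eq_zero _ ⟨m + 1, h2⟩ : z * (1 + z * (r * f (q.coeff 0)⁻¹)) = 0)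

/-- Adjoining an `e`-th root of a unit, `e` invertible, keeps a ring reduced. -/
theorem isReduced_adjoinRoot {R : Type u} [CommRing R] [_root_.IsReduced R] (e : ℕ) (he : IsUnit (e : R))
    (c : R) (hc : IsUnit c) : _root_.IsReduced (AdjoinRoot (X ^ e - C c : R[X])) := by
  cases subsingleton_or_nontrivial R
  · haveI : Subsingleton (AdjoinRoot (X ^ e - C c : R[X])) :=
      Function.Surjective.subsingleton AdjoinRoot.mk_surjective
    infer_instance
  have he0 : e ≠ 0 := by rintro rfl; simp at he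
  set f : R[X] := X ^ e - C c with hf
  have hfm : f.Monic := monic_X_pow_sub_C c he0
  refine ⟨fun z ⟨n, hz⟩ => ?_⟩
  obtain ⟨g, rfl⟩ := AdjoinRoot.mk_surjective z
  have hg : AdjoinRoot.mk f g = AdjoinRoot.mk f (g %ₘ f) :=
    AdjoinRoot.mk_eq_mk.2 ⟨g /ₘ f, by linear_combination -(modByMonic_add_div g f)⟩
  rw [hg, ← map_pow, AdjoinRoot.mk_eq_zero] at hz
  rw [hg]
  suffices g %ₘ f = 0 by rw [this, map_zero]
  refine Polynomial.ext fun i => ?_
  rw [coeff_zero]
  refine IsReduced.eq_zero _ (nilpotent_iff_mem_prime.2 fun p hp => ?_)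
  let φ : R →+* FractionRing (R ⧸ p) := (algebraMap (R ⧸ p) _).comp (Ideal.Quotient.mk p)
  have hsep : (f.map φ).Separable := by
    rw [hf, Polynomial.map_sub, Polynomial.map_pow, map_X, map_C]
    exact separable_X_pow_sub_C _ (by rw [← map_natCast φ e]; exact (he.map φ).ne_zero) (hc.map φ).ne_zero
  have hdvd : f.map φ ∣ (g %ₘ f).map φ := by
    refine hsep.squarefree.isRadical n _ ?_
    rw [← Polynomial.map_pow]
    exact Polynomial.map_dvd φ hz
  have hzero : (g %ₘ f).map φ = 0 :=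
    eq_zero_of_dvd_of_degree_lt hdvd (degree_map_le.trans_lt (by
      rw [hfm.degree_map]; exact degree_modByMonic_lt g hfm))
  have := congrArg (fun P => coeff P i) hzero
  simp only [coeff_map, coeff_zero] at this
  exact Ideal.Quotient.eq_zero_iff_mem.1 ((map_eq_zero_iff _ (IsFractionRing.injective (R ⧸ p) _)).1 this)

/-- The ring generated by two residue fields and an `e`-th root of a unit is von Neumann regular. -/
theorem isVNR_of_generators {k kB Ω S : Type u} [Field k] [Field kB] [Field Ω] [CommRing S] [Algebra k kB]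
    [Algebra k Ω] [_root_.IsReduced (kB ⊗[k] Ω)] (halg : Algebra.IsIntegral k Ω ∨ Algebra.IsIntegral k kB)
    (φB : kB →+* S) (φΩ : Ω →+* S) (hcomp : φB.comp (algebraMap k kB) = φΩ.comp (algebraMap k Ω))
    (y : S) (e : ℕ) (he : (e : k) ≠ 0) (a : kB) (ha : a ≠ 0) (b : Ω) (hb : b ≠ 0) (hy : y ^ e * φΩ b = φB a)
    (hgen : Subring.closure (Set.range φB ∪ Set.range φΩ ∪ {y}) = ⊤) : IsVNR S := by
  letI : Algebra k S := (φB.comp (algebraMap k kB)).toAlgebra
  let lB : kB →ₐ[k] S := { φB with commutes' := fun r => rfl }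
  let lΩ : Ω →ₐ[k] S := { φΩ with commutes' := fun r => (RingHom.congr_fun hcomp r).symm }
  let μ : kB ⊗[k] Ω →ₐ[k] S := Algebra.TensorProduct.productMap lB lΩ
  let c : kB ⊗[k] Ω := a ⊗ₜ b⁻¹
  have hc : IsUnit c := IsUnit.of_mul_eq_one (a⁻¹ ⊗ₜ b) (by
    rw [Algebra.TensorProduct.tmul_mul_tmul, mul_inv_cancel₀ ha, inv_mul_cancel₀ hb]; rfl)
  have heU : IsUnit (e : kB ⊗[k] Ω) := by
    rw [← map_natCast (algebraMap k (kB ⊗[k] Ω)) e]; exact (isUnit_iff_ne_zero.2 he).map _
  haveI := isReduced_adjoinRoot e heU c hc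
  have he0 : e ≠ 0 := by rintro rfl; simp at he
  have hμc : μ c = y ^ e := by
    show φB a * φΩ b⁻¹ = _
    rw [← hy, mul_assoc, ← map_mul, mul_inv_cancel₀ hb, map_one, mul_one]
  let θ : AdjoinRoot (X ^ e - C c : (kB ⊗[k] Ω)[X]) →+* S :=
    AdjoinRoot.lift μ.toRingHom y (by
      rw [eval₂_sub, eval₂_X_pow, eval₂_C, sub_eq_zero]; exact hμc.symm)
  have hθB : ∀ x, θ (AdjoinRoot.of _ (x ⊗ₜ 1)) = φB x := fun x => by
    rw [AdjoinRoot.lift_of]
    show φB x * φΩ 1 = _
    rw [map_one, mul_one]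
  have hθΩ : ∀ x, θ (AdjoinRoot.of _ (1 ⊗ₜ x)) = φΩ x := fun x => by
    rw [AdjoinRoot.lift_of]
    show φB 1 * φΩ x = _
    rw [map_one, one_mul]
  refine IsVNR.of_surjective θ (fun s => ?_) ?_
  · have : Subring.closure (Set.range φB ∪ Set.range φΩ ∪ {y}) ≤ θ.range := by
      rw [Subring.closure_le]
      rintro _ ((⟨x, rfl⟩ | ⟨x, rfl⟩) | rfl)
      · exact ⟨_, hθB x⟩
      · exact ⟨_, hθΩ x⟩
      · exact ⟨_, AdjoinRoot.lift_root _⟩
    rw [hgen] at this
    exact this (Subring.mem_top s)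
  have hfin : (AdjoinRoot.of (X ^ e - C c : (kB ⊗[k] Ω)[X])).IsIntegral :=
    RingHom.IsIntegral.of_finite (RingHom.finite_algebraMap.2 (monic_X_pow_sub_C c he0).finite_adjoinRoot)
  rcases halg with h | h
  · exact isVNR_of_integral ((AdjoinRoot.of _).comp (algebraMap kB (kB ⊗[k] Ω)))
      (RingHom.IsIntegral.trans _ _ (algebraMap_isIntegral_iff.2 inferInstance) hfin)
  · refine isVNR_of_integral ((AdjoinRoot.of _).comp
      (Algebra.TensorProduct.includeRight (R := k) (A := kB) (B := Ω)).toRingHom) ?_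
    refine RingHom.IsIntegral.trans _ _ (fun x => ?_) hfin
    induction x with
    | zero => exact RingHom.isIntegralElem_zero _
    | tmul p q =>
      rw [show p ⊗ₜ[k] q = (p ⊗ₜ[k] (1 : Ω)) * ((1 : kB) ⊗ₜ[k] q) by
        rw [Algebra.TensorProduct.tmul_mul_tmul, mul_one, one_mul]]
      refine RingHom.IsIntegralElem.mul _ ?_ (RingHom.isIntegralElem_map _)
      obtain ⟨P, hP, hPp⟩ := Algebra.IsIntegral.isIntegral (R := k) p
      refine ⟨P.map (algebraMap k Ω), hP.map _, ?_⟩
      rw [eval₂_map, show (Algebra.TensorProduct.includeRight (R := k) (A := kB) (B := Ω)).toRingHom.comp (algebraMap k Ω) = algebraMap k (kB ⊗[k] Ω) from RingHom.ext fun r => (Algebra.TensorProduct.includeRight (R := k) (A := kB) (B := Ω)).commutes r]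
      show eval₂ _ ((Algebra.TensorProduct.includeLeft (S := k) : kB →ₐ[k] kB ⊗[k] Ω) p) P = 0
      rw [← aeval_def, aeval_algHom_apply, aeval_def, hPp, map_zero]
    | add p q hp hq => exact RingHom.IsIntegralElem.add _ hp hq

end Groth.Agent.TameAbh
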