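import Mathlib
import Groth.Agent.TameAbh.VNR

/-! The key step of Abhyankar's lemma for valuation subrings. -/

set_option autoImplicit false
set_option linter.all false
universe u
open IsLocalRing
open scoped TensorProduct

noncomputable section

namespace Groth.Agent.TameAbh

/-- Abhyankar's lemma, valuation subring form: `W` is generated, up to fractions, by `B` and `V`, both over `A`;
if the ramification index `e` of `B` divides that of `V` and is invertible in the residue field, then a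
uniformizer of `V` generates the maximal ideal of `W` and the residue field of `W` is generated by those of
`B` and `V` and an `e`-th root. -/
theorem abhyankar {A B V M : Type u} [CommRing A] [IsLocalRing A] [CommRing B] [IsLocalRing B]
    [CommRing V] [IsLocalRing V] [Field M] (W : ValuationSubring M) [IsDiscreteValuationRing W]
    [Algebra A B] [Algebra A V] [IsLocalHom (algebraMap A B)] [IsLocalHom (algebraMap A V)]
    (iB : B →+* W) (iV : V →+* W) [IsLocalHom iB] [IsLocalHom iV]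
    (hc : iB.comp (algebraMap A B) = iV.comp (algebraMap A V))
    [_root_.IsReduced (ResidueField B ⊗[ResidueField A] ResidueField V)]
    (halg : Algebra.IsIntegral (ResidueField A) (ResidueField V) ∨ Algebra.IsIntegral (ResidueField A) (ResidueField B))
    (hgen : ∀ x : M, ∃ a ∈ Subring.closure (Set.range (W.subtype.comp iB) ∪ Set.range (W.subtype.comp iV)),
      ∃ b ∈ Subring.closure (Set.range (W.subtype.comp iB) ∪ Set.range (W.subtype.comp iV)), b ≠ 0 ∧ x * b = a)
    (ϖ : B) (hϖ : maximalIdeal B = Ideal.span {ϖ}) (π₁ : V) (hπ₁ : maximalIdeal V = Ideal.span {π₁})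
    (hπ₀ : iV π₁ ≠ 0) (e d : ℕ) (he : (e : ResidueField A) ≠ 0) (hd : d ≠ 0) (a : A) (u : Bˣ) (v : Vˣ)
    (ha : algebraMap A B a = u * ϖ ^ e) (hb : algebraMap A V a = v * π₁ ^ (e * d)) :
    maximalIdeal W = Ideal.span {iV π₁} ∧
      ∃ y : ResidueField W,
        y ^ e * ResidueField.map iV (residue V v) = ResidueField.map iB (residue B u) ∧
        Subring.closure (Set.range (ResidueField.map iB) ∪ Set.range (ResidueField.map iV) ∪ {y}) = ⊤ := by
  have he0 : e ≠ 0 := by rintro rfl; simp at he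
  have hcr : (iB (u : B) : W) * iB ϖ ^ e = iV (v : V) * iV π₁ ^ (e * d) := by
    rw [← map_pow, ← map_mul, ← ha, ← map_pow, ← map_mul, ← hb]
    exact RingHom.congr_fun hc a
  have hvU : IsUnit (iV (v : V)) := v.isUnit.map iV
  have huU : IsUnit (iB (u : B)) := u.isUnit.map iB
  have hϖ0 : iB ϖ ≠ 0 := fun h => by
    rw [h, zero_pow he0, mul_zero, eq_comm, mul_eq_zero] at hcr
    exact hcr.elim hvU.ne_zero fun h' => hπ₀ (pow_eq_zero_iff (Nat.mul_ne_zero he0 hd) |>.1 h')
  obtain ⟨w, hwU, hw, hwe⟩ : ∃ w : W, IsUnit w ∧ iB ϖ * w = iV π₁ ^ d ∧ w ^ e * iV (v : V) = iB (u : B) := by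
    let x : M := (iV π₁ : M) ^ d / (iB ϖ : M)
    have hϖM : ((iB ϖ : W) : M) ≠ 0 := fun h => hϖ0 (Subtype.ext h)
    have hcrM : ((iB (u : B) : W) : M) * (iB ϖ : M) ^ e = (iV (v : V) : M) * (iV π₁ : M) ^ (e * d) := by
      exact_mod_cast congrArg Subtype.val hcr
    have hxe : x ^ e * (iV (v : V) : M) = (iB (u : B) : M) := by
      rw [div_pow, ← pow_mul, div_mul_eq_mul_div, div_eq_iff (pow_ne_zero _ hϖM), hcrM, mul_comm d e, mul_comm]
    obtain ⟨v', hv'⟩ := hvU.exists_right_inv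
    have hxeW : x ^ e = ((iB (u : B) * v' : W) : M) := by
      have h1 : ((iV (v : V) : W) : M) * (v' : M) = 1 := congrArg Subtype.val hv'
      rw [MulMemClass.coe_mul, ← hxe, mul_assoc, h1, mul_one]
    have hxW : x ∈ W := by
      rcases W.mem_or_inv_mem x with h | h
      · exact h
      rcases eq_or_ne x 0 with h0 | h0
      · rw [h0]; exact zero_mem _
      rw [show x = x ^ e * (x⁻¹) ^ (e - 1) by
        conv_rhs => rw [show e = (e - 1) + 1 by omega, pow_succ, Nat.add_sub_cancel]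
        rw [mul_comm (x ^ (e - 1)), mul_assoc, ← mul_pow, mul_inv_cancel₀ h0, one_pow, mul_one]]
      exact mul_mem (hxeW ▸ SetLike.coe_mem _) (pow_mem h _)
    refine ⟨⟨x, hxW⟩, ?_, Subtype.ext ?_, Subtype.ext hxe⟩
    · refine (isUnit_pow_iff he0).1 ?_
      rw [show (⟨x, hxW⟩ : W) ^ e = iB (u : B) * v' from Subtype.ext hxeW]
      exact huU.mul (IsUnit.of_mul_eq_one _ (by rw [mul_comm]; exact hv'))
    · simp only [MulMemClass.coe_mul, SubmonoidClass.coe_pow]
      exact mul_div_cancel₀ _ hϖM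
  let D₀ : Subring W := Subring.closure (Set.range iB ∪ Set.range iV ∪ {w})
  have hB : ∀ b, iB b ∈ D₀ := fun b => Subring.subset_closure (Or.inl (Or.inl ⟨b, rfl⟩))
  have hV : ∀ b, iV b ∈ D₀ := fun b => Subring.subset_closure (Or.inl (Or.inr ⟨b, rfl⟩))
  have hwD : w ∈ D₀ := Subring.subset_closure (Or.inr rfl)
  let p : D₀ := ⟨iV π₁, hV π₁⟩
  let jB : B →+* D₀ := iB.codRestrict D₀ hB
  let jV : V →+* D₀ := iV.codRestrict D₀ hV
  let q : Ideal D₀ := (maximalIdeal W).comap D₀.subtype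
  haveI hqp : q.IsPrime := Ideal.IsPrime.comap _
  have hq : ∀ x : D₀, x ∉ q ↔ IsUnit (x : W) := fun x => by
    rw [Ideal.mem_comap, mem_maximalIdeal, mem_nonunits_iff, not_not]; rfl
  have hpW : iV π₁ ∈ maximalIdeal W := fun h =>
    (maximalIdeal.isMaximal V).ne_top
      (hπ₁ ▸ Ideal.eq_top_of_isUnit_mem _ (Ideal.mem_span_singleton_self π₁) (h.of_map iV π₁))
  let 𝔞 : Ideal D₀ :=
    { carrier := {z | ∃ s, s ∉ q ∧ ∃ t, z * s = p * t}
      zero_mem' := ⟨1, (hq 1).2 isUnit_one, 0, by simp⟩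
      add_mem' := by
        rintro z z' ⟨s, hs, t, ht⟩ ⟨s', hs', t', ht'⟩
        exact ⟨s * s', fun h => (hqp.mem_or_mem h).elim hs hs', t * s' + t' * s, by
          linear_combination s' * ht + s * ht'⟩
      smul_mem' := by
        rintro r z ⟨s, hs, t, ht⟩
        exact ⟨s, hs, r * t, by rw [smul_eq_mul]; linear_combination r * ht⟩ }
  have hker : ∀ {X : Type u} [CommRing X] (φ : X →+* D₀) (x₀ : X), φ x₀ ∈ 𝔞 →
      Ideal.span {x₀} ≤ RingHom.ker ((Ideal.Quotient.mk 𝔞).comp φ) := by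
    intro X _ φ x₀ h
    rw [Ideal.span_le, Set.singleton_subset_iff, SetLike.mem_coe, RingHom.mem_ker]
    exact Ideal.Quotient.eq_zero_iff_mem.2 h
  have hpa : jV π₁ ∈ 𝔞 := ⟨1, (hq 1).2 isUnit_one, 1, by simp [p, jV]; rfl⟩
  have hϖa : jB ϖ ∈ 𝔞 := ⟨⟨w, hwD⟩, (hq _).2 hwU, p ^ (d - 1), Subtype.ext (by
    simp only [MulMemClass.coe_mul, SubmonoidClass.coe_pow]
    show iB ϖ * w = iV π₁ * iV π₁ ^ (d - 1)
    rw [hw, ← pow_succ', Nat.sub_add_cancel (Nat.one_le_iff_ne_zero.2 hd)])⟩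
  let φB : ResidueField B →+* D₀ ⧸ 𝔞 :=
    Ideal.Quotient.lift _ ((Ideal.Quotient.mk 𝔞).comp jB) (fun x hx => hker jB ϖ hϖa (hϖ ▸ hx))
  let φV : ResidueField V →+* D₀ ⧸ 𝔞 :=
    Ideal.Quotient.lift _ ((Ideal.Quotient.mk 𝔞).comp jV) (fun x hx => hker jV π₁ hpa (hπ₁ ▸ hx))
  have hcomp : φB.comp (algebraMap (ResidueField A) (ResidueField B)) =
      φV.comp (algebraMap (ResidueField A) (ResidueField V)) := by
    refine RingHom.ext fun x => ?_
    obtain ⟨x, rfl⟩ := residue_surjective x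
    exact congrArg (Ideal.Quotient.mk 𝔞) (Subtype.ext (RingHom.congr_fun hc x))
  have hgenR : Subring.closure (Set.range φB ∪ Set.range φV ∪ {Ideal.Quotient.mk 𝔞 ⟨w, hwD⟩}) = ⊤ := by
    rw [eq_top_iff]
    rintro z -
    obtain ⟨⟨z, hz⟩, rfl⟩ := Ideal.Quotient.mk_surjective z
    induction hz using Subring.closure_induction with
    | mem x hx =>
      rcases hx with (⟨b, rfl⟩ | ⟨b, rfl⟩) | rfl
      · exact Subring.subset_closure (Or.inl (Or.inl ⟨residue B b, rfl⟩))
      · exact Subring.subset_closure (Or.inl (Or.inr ⟨residue V b, rfl⟩))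
      · exact Subring.subset_closure (Or.inr rfl)
    | zero => exact (map_zero (Ideal.Quotient.mk 𝔞)).symm ▸ zero_mem _
    | one => exact (map_one (Ideal.Quotient.mk 𝔞)).symm ▸ one_mem _
    | add x y hx hy h h' => exact add_mem h h'
    | neg x hx h => exact neg_mem h
    | mul x y hx hy h h' => exact mul_mem h h'
  have hres : residue V (v : V) ≠ 0 := (v.isUnit.map (residue V)).ne_zero
  have hres' : residue B (u : B) ≠ 0 := (u.isUnit.map (residue B)).ne_zero
  have hvnr : IsVNR (D₀ ⧸ 𝔞) := isVNR_of_generators halg φB φV hcomp (Ideal.Quotient.mk 𝔞 ⟨w, hwD⟩) e he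
    _ hres' _ hres (congrArg (Ideal.Quotient.mk 𝔞) (Subtype.ext hwe : (⟨w, hwD⟩ : D₀) ^ e * jV v = jB u)) hgenR
  have hq𝔞 : ∀ z : D₀, z ∈ q → z ∈ 𝔞 := by
    intro z hz
    obtain ⟨c, hc'⟩ := hvnr (Ideal.Quotient.mk 𝔞 z)
    obtain ⟨c, rfl⟩ := Ideal.Quotient.mk_surjective c
    rw [← map_mul, ← map_mul, Ideal.Quotient.eq] at hc'
    obtain ⟨s, hs, t, ht⟩ := hc'
    have h1 : 1 - z * c ∉ q := fun h => (hqp.ne_top ((Ideal.eq_top_iff_one q).2 (by
      have := q.add_mem h (q.mul_mem_right c hz)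
      rwa [sub_add_cancel] at this)))
    exact ⟨(1 - z * c) * s, fun h => (hqp.mem_or_mem h).elim h1 hs, t, by rw [← ht]; ring⟩
  obtain ⟨ρ, hρ⟩ := IsDiscreteValuationRing.exists_irreducible W
  have hfac : ∀ n : ℕ, ∀ z : D₀, IsDiscreteValuationRing.addVal W (z : W) = n →
      ∃ k s t, s ∉ q ∧ t ∉ q ∧ z * s = p ^ k * t := by
    intro n
    induction n using Nat.strong_induction_on with
    | _ n ih =>
      intro z hz
      by_cases hzq : z ∈ q
      · obtain ⟨s, hs, t, ht⟩ := hq𝔞 z hzq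
        have hval : IsDiscreteValuationRing.addVal W (iV π₁) + IsDiscreteValuationRing.addVal W (t : W) = n := by
          rw [← IsDiscreteValuationRing.addVal_mul, show iV π₁ * (t : W) = (z : W) * (s : W) from
            (congrArg Subtype.val ht).symm, IsDiscreteValuationRing.addVal_mul, hz,
            IsDiscreteValuationRing.addVal_eq_zero_iff.2 ((hq s).1 hs), add_zero]
        obtain ⟨m, hm⟩ := ENat.ne_top_iff_exists.1 (show IsDiscreteValuationRing.addVal W (t : W) ≠ ⊤ by
          intro h; rw [h, add_top] at hval; exact ENat.top_ne_natCast n hval)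
        have hlt : m < n := by
          obtain ⟨l, hl⟩ := ENat.ne_top_iff_exists.1 (show IsDiscreteValuationRing.addVal W (iV π₁) ≠ ⊤ by
            rw [Ne, IsDiscreteValuationRing.addVal_eq_top_iff]; exact hπ₀)
          rw [← hm, ← hl] at hval
          have : l + m = n := by exact_mod_cast hval
          have : l ≠ 0 := fun h0 => hpW (IsDiscreteValuationRing.addVal_eq_zero_iff.1 (by rw [← hl, h0]; rfl))
          omega
        obtain ⟨k, s', t', hs', ht', h'⟩ := ih m hlt t hm.symm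
        exact ⟨k + 1, s * s', t', fun h => (hqp.mem_or_mem h).elim hs hs', ht', by
          linear_combination s' * ht + p * h'⟩
      · exact ⟨0, 1, z, (hq 1).2 isUnit_one, hzq, by rw [mul_one, pow_zero, one_mul]⟩
  have hfac' : ∀ z : D₀, (z : W) ≠ 0 → ∃ k s t, s ∉ q ∧ t ∉ q ∧ z * s = p ^ k * t := by
    intro z hz
    obtain ⟨n, hn⟩ := ENat.ne_top_iff_exists.1 (show IsDiscreteValuationRing.addVal W (z : W) ≠ ⊤ by
      rw [Ne, IsDiscreteValuationRing.addVal_eq_top_iff]; exact hz)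
    exact hfac n z hn.symm
  have hfrac : ∀ x : W, x ≠ 0 → ∃ (k : ℕ) (g : D₀) (h : D₀), g ∉ q ∧ h ∉ q ∧
      (x * (g : W) = iV π₁ ^ k * (h : W)) := by
    intro x hx
    obtain ⟨a', ha', b', hb', hb0, hab⟩ := hgen (x : M)
    have hsub : Subring.closure (Set.range (W.subtype.comp iB) ∪ Set.range (W.subtype.comp iV)) ≤
        D₀.map W.subtype := by
      rw [Subring.closure_le]
      rintro _ (⟨b, rfl⟩ | ⟨b, rfl⟩)
      · exact ⟨iB b, hB b, rfl⟩
      · exact ⟨iV b, hV b, rfl⟩
    obtain ⟨a'', ha'', rfl⟩ := hsub ha'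
    obtain ⟨b'', hb'', rfl⟩ := hsub hb'
    have hb0' : b'' ≠ 0 := fun h => hb0 (by rw [h]; rfl)
    have habW : x * b'' = a'' := Subtype.ext hab
    have ha0 : a'' ≠ 0 := habW ▸ mul_ne_zero hx hb0'
    obtain ⟨k, s, t, hs, ht, hst⟩ := hfac' ⟨a'', ha''⟩ ha0
    obtain ⟨k', s', t', hs', ht', hst'⟩ := hfac' ⟨b'', hb''⟩ hb0'
    have h1 : a'' * (s : W) = iV π₁ ^ k * (t : W) := congrArg Subtype.val hst
    have h2 : b'' * (s' : W) = iV π₁ ^ k' * (t' : W) := congrArg Subtype.val hst'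
    have h3 : iV π₁ ^ k' * (x * ((t' * s : D₀) : W)) = iV π₁ ^ k * ((t * s' : D₀) : W) := by
      show iV π₁ ^ k' * (x * ((t' : W) * (s : W))) = iV π₁ ^ k * ((t : W) * (s' : W))
      calc iV π₁ ^ k' * (x * ((t' : W) * (s : W))) = x * (iV π₁ ^ k' * (t' : W)) * (s : W) := by ring
        _ = x * (b'' * (s' : W)) * (s : W) := by rw [h2]
        _ = (a'' * (s : W)) * (s' : W) := by rw [← habW]; ring
        _ = _ := by rw [h1]; ring
    rcases le_or_gt k' k with hk | hk
    · refine ⟨k - k', t' * s, t * s', fun h => (hqp.mem_or_mem h).elim ht' hs,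
        fun h => (hqp.mem_or_mem h).elim ht hs', ?_⟩
      refine mul_left_cancel₀ (pow_ne_zero k' hπ₀) ?_
      rw [h3, ← mul_assoc, ← pow_add, Nat.add_sub_cancel' hk]
    · exfalso
      refine (hq (t * s')).1 (fun h => (hqp.mem_or_mem h).elim ht hs') |> fun hu => hpW ?_
      rw [← Nat.add_sub_cancel' hk.le, pow_add, mul_assoc] at h3
      have h4 := mul_left_cancel₀ (pow_ne_zero k hπ₀) h3
      exact isUnit_of_dvd_unit (Dvd.dvd.mul_right (dvd_pow_self _ (by omega)) _) (h4 ▸ hu)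
  have hmax : maximalIdeal W = Ideal.span {iV π₁} := by
    refine le_antisymm (fun x hx => ?_) ((Ideal.span_singleton_le_iff_mem _).2 hpW)
    rcases eq_or_ne x 0 with rfl | hx0
    · exact zero_mem _
    obtain ⟨k, g, h, hg, hh, hgh⟩ := hfrac x hx0
    rcases k with _ | k
    · rw [pow_zero, one_mul] at hgh
      exact absurd (isUnit_of_mul_isUnit_left (hgh ▸ (hq h).1 hh)) hx
    · obtain ⟨g', hg'⟩ := ((hq g).1 hg).exists_right_inv
      rw [Ideal.mem_span_singleton]
      exact ⟨iV π₁ ^ k * (h : W) * g', by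
        rw [← mul_one x, ← hg', ← mul_assoc, hgh]; ring⟩
  refine ⟨hmax, residue W w, ?_, ?_⟩
  · rw [ResidueField.map_residue, ResidueField.map_residue, ← map_pow, ← map_mul, hwe]
  set C := Subring.closure (Set.range (ResidueField.map iB) ∪ Set.range (ResidueField.map iV) ∪ {residue W w})
    with hC
  let ψ : D₀ ⧸ 𝔞 →+* ResidueField W := Ideal.Quotient.lift 𝔞 ((residue W).comp D₀.subtype) (by
    rintro z ⟨s, hs, t, ht⟩
    show residue W (z : W) = 0
    have h1 := congrArg (fun x : D₀ => residue W (x : W)) ht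
    simp only [MulMemClass.coe_mul, map_mul] at h1
    rw [show residue W (p : W) = 0 from (residue_eq_zero_iff _).2 hpW, zero_mul] at h1
    exact (mul_eq_zero.1 h1).resolve_right (((hq s).1 hs).map (residue W)).ne_zero)
  have hψC : C = ψ.range := by
    rw [RingHom.range_eq_map, ← hgenR, RingHom.map_closure, Set.image_union, Set.image_union, hC,
      Set.image_singleton, ← Set.range_comp, ← Set.range_comp]
    congr 3
    · refine congrArg Set.range (funext fun x => ?_)
      obtain ⟨x, rfl⟩ := residue_surjective x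
      rfl
    · refine congrArg Set.range (funext fun x => ?_)
      obtain ⟨x, rfl⟩ := residue_surjective x
      rfl
  rw [hψC, eq_top_iff]
  rintro z -
  obtain ⟨x, rfl⟩ := residue_surjective z
  by_cases hxU : IsUnit x
  swap
  · exact ⟨0, by rw [map_zero, (residue_eq_zero_iff _).2 hxU]⟩
  obtain ⟨k, g, h, hg, hh, hgh⟩ := hfrac x hxU.ne_zero
  have hk : k = 0 := by
    by_contra hk
    exact hpW (isUnit_of_dvd_unit (Dvd.dvd.mul_right (dvd_pow_self _ hk) _) (hgh ▸ hxU.mul ((hq g).1 hg)))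
  rw [hk, pow_zero, one_mul] at hgh
  obtain ⟨c, hc'⟩ := hvnr (Ideal.Quotient.mk 𝔞 g)
  have hg0 : residue W (g : W) ≠ 0 := (((hq g).1 hg).map (residue W)).ne_zero
  have hg1 : residue W (g : W) * ψ c = 1 := by
    refine mul_left_cancel₀ hg0 ?_
    rw [← mul_assoc, mul_one]
    conv_rhs => rw [show residue W (g : W) = ψ (Ideal.Quotient.mk 𝔞 g) from rfl, hc']
    rw [map_mul, map_mul]
    rfl
  refine ⟨Ideal.Quotient.mk 𝔞 h * c, ?_⟩
  rw [map_mul, show ψ (Ideal.Quotient.mk 𝔞 h) = residue W (h : W) from rfl, ← hgh, map_mul, mul_assoc, hg1, mul_one]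

end Groth.Agent.TameAbh
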