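import Mathlib
import Groth.Prelude.Def_EtRam
import Groth.Agent.DvrDom.KrullAkizuki
import Groth.Agent.DvrDom.Basic
import Groth.Agent.EtRamTower.Basic

/-! Valuation subrings of finite (possibly inseparable) extensions dominating a DVR. -/

set_option autoImplicit false
set_option linter.all false
universe u
open IsLocalRing Polynomial
open scoped TensorProduct

noncomputable section

namespace Groth.Agent.TameAbh

theorem dominates_of_isLocalHom {A : Type u} [CommRing A] [IsLocalRing A] {F : Type u} [Field F] (g : A →+* F)
    (V : ValuationSubring F) (i : A →+* V) [IsLocalHom i] (hi : ∀ a, (i a : F) = g a) : EtRam.Dominates A g V :=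
  ⟨fun a => hi a ▸ (i a).2, fun a ha => hi a ▸ (V.valuation_lt_one_iff _).1 fun h => ha (h.of_map i a)⟩

variable {A K : Type u} [CommRing A] [IsDomain A] [IsDiscreteValuationRing A] [Field K] [Algebra A K]
  [IsFractionRing A K] {L : Type u} [Field L] [Algebra K L] [FiniteDimensional K L]

/-- A primitive polynomial over `A` vanishing at a given element, of degree at most `[L : K]`. -/
theorem exists_primitive_root (x : L) : ∃ p : A[X], p.IsPrimitive ∧ p.natDegree ≤ Module.finrank K L ∧
    eval₂ ((algebraMap K L).comp (algebraMap A K)) x p = 0 := by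
  classical
  letI : NormalizedGCDMonoid A := Classical.arbitrary _
  set q := IsLocalization.integerNormalization (nonZeroDivisors A) (minpoly K x) with hqdef
  have hint : IsIntegral K x := Algebra.IsIntegral.isIntegral x
  have hq0 : q ≠ 0 := fun h => minpoly.ne_zero hint (IsFractionRing.integerNormalization_eq_zero_iff.1 h)
  refine ⟨q.primPart, q.isPrimitive_primPart, ?_, ?_⟩
  · rw [natDegree_primPart]
    exact (le_natDegree_of_mem_supp _ (IsLocalization.integerNormalization_support (nonZeroDivisors A) _
      (natDegree_mem_support_of_nonzero hq0))).trans (minpoly.natDegree_le x)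
  · refine eval₂_primPart_eq_zero (f := (algebraMap K L).comp (algebraMap A K))
      ((algebraMap K L).injective.comp (IsFractionRing.injective A K) : Function.Injective ⇑((algebraMap K L).comp (algebraMap A K))) hq0 ?_
    exact IsLocalization.integerNormalization_eval₂_eq_zero (nonZeroDivisors A) _ _ (minpoly.aeval K x)

/-- A primitive polynomial has a coefficient outside the maximal ideal. -/
theorem exists_coeff_unit {p : A[X]} (hp : p.IsPrimitive) (h : ∀ i, p.coeff i ∈ maximalIdeal A) : False := by
  obtain ⟨π, hπ⟩ := IsDiscreteValuationRing.exists_irreducible A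
  refine hπ.not_isUnit (hp π (C_dvd_iff_dvd_coeff _ _ |>.2 fun i => Ideal.mem_span_singleton.1 ?_))
  rw [← (IsDiscreteValuationRing.irreducible_iff_uniformizer π).1 hπ]
  exact h i

/-- A valuation subring of a finite extension dominating a DVR is a DVR. -/
theorem isDVR_of_dominates (V : ValuationSubring L)
    (h : EtRam.Dominates A ((algebraMap K L).comp (algebraMap A K)) V) : IsDiscreteValuationRing V := by
  classical
  letI : Algebra A L := ((algebraMap K L).comp (algebraMap A K)).toAlgebra
  haveI : IsScalarTower A K L := IsScalarTower.of_algebraMap_eq fun _ => rfl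
  haveI : Algebra.IsAlgebraic A K := (IsFractionRing.comap_isAlgebraic_iff (A := A) (K := K) (C := K)).2 inferInstance
  obtain ⟨s, b, hb⟩ := FiniteDimensional.exists_is_basis_integral A K L
  let C : Subalgebra A L := Algebra.adjoin A (Set.range b)
  haveI : Algebra.IsIntegral A C := by
    rw [← le_integralClosure_iff_isIntegral, Algebra.adjoin_le_iff]
    rintro _ ⟨i, rfl⟩; exact hb i
  haveI : Algebra.FiniteType A C := (Subalgebra.fg_iff_finiteType C).1
    (Subalgebra.fg_def.2 ⟨Set.range b, Set.finite_range b, rfl⟩)
  haveI : IsNoetherianRing C := Algebra.FiniteType.isNoetherianRing A C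
  haveI : Ring.KrullDimLE 1 C := Ring.krullDimLE_one_iff_of_noZeroDivisors.2 fun I hI hp => by
    have hne : I.comap (algebraMap A C) ≠ ⊥ := fun h0 => hI (Ideal.eq_bot_of_comap_eq_bot h0)
    haveI : (I.comap (algebraMap A C)).IsPrime := Ideal.IsPrime.comap _
    haveI := Ideal.IsPrime.isMaximal (inferInstance : (I.comap (algebraMap A C)).IsPrime) hne
    exact Ideal.isMaximal_of_isIntegral_of_isMaximal_comap (R := A) I inferInstance
  haveI : IsFractionRing C L := DvrDom.isFractionRing_of_closure (by
    rw [eq_top_iff]
    intro x _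
    rw [← b.sum_repr x]
    refine sum_mem fun i _ => ?_
    rw [Algebra.smul_def]
    refine mul_mem ?_ (Subfield.subset_closure ⟨⟨b i, Algebra.subset_adjoin ⟨i, rfl⟩⟩, rfl⟩)
    obtain ⟨n, d, hd, hnd⟩ := IsFractionRing.div_surjective (A := A) (b.repr x i)
    rw [← hnd, map_div₀]
    exact div_mem (Subfield.subset_closure ⟨algebraMap A C n, rfl⟩) (Subfield.subset_closure ⟨algebraMap A C d, rfl⟩))
  letI : Algebra A V := (RingHom.codRestrict (algebraMap A L) V h.1).toAlgebra
  haveI : IsScalarTower A V L := IsScalarTower.of_algebraMap_eq fun _ => rfl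
  have hCV : ∀ c : C, algebraMap C L c ∈ V := fun c => by
    obtain ⟨y, hy⟩ := IsIntegrallyClosed.isIntegral_iff.1
      (((Algebra.IsIntegral.isIntegral (R := A) c).algebraMap (B := L)).tower_top (A := V))
    exact hy ▸ y.2
  obtain ⟨π, hπ⟩ := IsDiscreteValuationRing.exists_irreducible A
  let D : Subalgebra C L := { V.toSubring with algebraMap_mem' := hCV }
  have hD : IsNoetherianRing D := DvrDom.isNoetherianRing_subalgebra D
  let e : D ≃+* V :=
    { toFun := fun x ↦ ⟨x.1, x.2⟩
      invFun := fun x ↦ ⟨x.1, x.2⟩
      left_inv := fun x ↦ rfl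
      right_inv := fun x ↦ rfl
      map_mul' := fun _ _ ↦ rfl
      map_add' := fun _ _ ↦ rfl }
  haveI : IsNoetherianRing V := isNoetherianRing_of_ringEquiv D e
  haveI : IsPrincipalIdealRing V := ⟨fun I ↦ IsBezout.isPrincipal_of_FG I (IsNoetherian.noetherian I)⟩
  refine { not_a_field' := fun hbot => ?_ }
  have h0 := (V.valuation_lt_one_iff ⟨_, h.1 π⟩).2 (h.2 π hπ.not_isUnit)
  rw [hbot, Ideal.mem_bot] at h0
  exact hπ.ne_zero ((map_eq_zero_iff (f := algebraMap A L) ((algebraMap K L).injective.comp
    (IsFractionRing.injective A K))).1 (congrArg Subtype.val h0))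

section

variable (V : ValuationSubring L) [Algebra A V]
  (hA : ∀ a, (algebraMap A V a : L) = algebraMap K L (algebraMap A K a))
include hA

theorem algebraMap_injective_of : Function.Injective (algebraMap A V) := fun a b h => by
  have := congrArg Subtype.val h
  rw [hA, hA] at this
  exact IsFractionRing.injective A K ((algebraMap K L).injective this)

theorem isIntegral_residue [IsLocalHom (algebraMap A V)] : Algebra.IsIntegral (ResidueField A) (ResidueField V) := by
  refine ⟨fun x => ?_⟩
  obtain ⟨x, rfl⟩ := residue_surjective x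
  obtain ⟨p, hp, -, hpx⟩ := exists_primitive_root (A := A) (K := K) (x : L)
  refine IsAlgebraic.isIntegral ⟨p.map (residue A), fun h => ?_, ?_⟩
  · have hall : ∀ i, p.coeff i ∈ maximalIdeal A := fun i => by
      have := congrArg (fun r => coeff r i) h
      simpa [residue_eq_zero_iff] using this
    exact exists_coeff_unit hp hall
  · have h0 : eval₂ (algebraMap A V) x p = 0 := by
      refine Subtype.ext ?_
      show V.subtype _ = _
      rw [hom_eval₂, show V.subtype.comp (algebraMap A V) = (algebraMap K L).comp (algebraMap A K) from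
        RingHom.ext hA]
      exact hpx
    rw [aeval_def, eval₂_map, show (algebraMap (ResidueField A) (ResidueField V)).comp (residue A) =
      (residue V).comp (algebraMap A V) from rfl, ← hom_eval₂, h0, map_zero]

theorem exists_pow_eq [IsDiscreteValuationRing V] [IsLocalHom (algebraMap A V)] (π : A) (hπ : Irreducible π)
    (ϖ : V) (hϖ : Irreducible ϖ) :
    ∃ u : Vˣ, algebraMap A V π = u * ϖ ^ Ideal.ramificationIdx' (maximalIdeal A) (maximalIdeal V) ∧
      Ideal.ramificationIdx' (maximalIdeal A) (maximalIdeal V) ≠ 0 ∧
      Ideal.ramificationIdx' (maximalIdeal A) (maximalIdeal V) ≤ Module.finrank K L := by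
  have hπ0 : algebraMap A V π ≠ 0 := fun h => hπ.ne_zero
    (algebraMap_injective_of V hA (h.trans (map_zero _).symm))
  obtain ⟨n, u, hu⟩ := IsDiscreteValuationRing.eq_unit_mul_pow_irreducible hπ0 hϖ
  have hmax : maximalIdeal V = Ideal.span {ϖ} := (IsDiscreteValuationRing.irreducible_iff_uniformizer ϖ).1 hϖ
  have hmap : (maximalIdeal A).map (algebraMap A V) = maximalIdeal V ^ n := by
    rw [(IsDiscreteValuationRing.irreducible_iff_uniformizer π).1 hπ, Ideal.map_span, Set.image_singleton, hu,
      Ideal.span_singleton_mul_left_unit u.isUnit, hmax, Ideal.span_singleton_pow]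
  have he : Ideal.ramificationIdx' (maximalIdeal A) (maximalIdeal V) = n :=
    Ideal.ramificationIdx'_spec hmap.le fun hle =>
      (Ideal.pow_succ_lt_pow (IsDiscreteValuationRing.not_a_field V) n).not_ge (hmap.ge.trans hle)
  rw [he]
  have hn : n ≠ 0 := by
    rintro rfl
    rw [pow_zero, mul_one] at hu
    exact hπ.not_isUnit ((hu ▸ u.isUnit).of_map (algebraMap A V) π)
  refine ⟨u, hu, hn, ?_⟩
  obtain ⟨p, hp, hdeg, hpx⟩ := exists_primitive_root (A := A) (K := K) (ϖ : L)
  refine le_trans ?_ hdeg
  by_contra hlt
  rw [not_le] at hlt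
  have h0 : eval₂ (algebraMap A V) ϖ p = 0 := by
    refine Subtype.ext ?_
    show V.subtype _ = _
    rw [hom_eval₂, show V.subtype.comp (algebraMap A V) = (algebraMap K L).comp (algebraMap A K) from
      RingHom.ext hA]
    exact hpx
  have hall : ∀ i, p.coeff i ∈ maximalIdeal A := by
    intro i
    induction i using Nat.strong_induction_on with
    | _ i ih =>
      rcases lt_or_ge p.natDegree i with hi | hi
      · rw [coeff_eq_zero_of_natDegree_lt hi]; exact zero_mem _
      by_contra hc
      rw [eval₂_eq_sum_range, ← Finset.add_sum_erase _ _ (Finset.mem_range.2 (Nat.lt_succ_of_le hi))] at h0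
      have hmem : algebraMap A V (p.coeff i) * ϖ ^ i ∈ maximalIdeal V ^ (i + 1) := by
        rw [eq_neg_of_add_eq_zero_left h0]
        refine neg_mem (sum_mem fun j hj => ?_)
        rw [Finset.mem_erase, Finset.mem_range] at hj
        rcases lt_or_gt_of_ne hj.1 with hji | hji
        · refine Ideal.mul_mem_right _ _ (Ideal.pow_le_pow_right (show i + 1 ≤ n by omega) ?_)
          rw [← hmap]; exact Ideal.mem_map_of_mem _ (ih j hji)
        · refine Ideal.mul_mem_left _ _ (Ideal.pow_le_pow_right (show i + 1 ≤ j by omega) ?_)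
          exact Ideal.pow_mem_pow (hmax ▸ Ideal.mem_span_singleton_self ϖ) j
      rw [hmax, Ideal.span_singleton_pow, Ideal.mem_span_singleton, pow_succ', mul_dvd_mul_iff_right (pow_ne_zero i hϖ.ne_zero)] at hmem
      exact hϖ.not_isUnit (isUnit_of_dvd_unit hmem ((not_not.1 hc).map (algebraMap A V)))
  exact exists_coeff_unit hp hall

end

end Groth.Agent.TameAbh
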