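import Mathlib
import Groth.Prelude.Def_EtRam
import Groth.Agent.TameAbh.Core
import Groth.Agent.TameAbh.Dominate
import Groth.Agent.FinHopf.PerfTensor
import Groth.Agent.GeomRedPull.Field

/-! Abhyankar's lemma for composita of fields. -/

set_option autoImplicit false
set_option linter.all false
universe u
open IsLocalRing Polynomial
open scoped TensorProduct

noncomputable section

namespace Groth.Agent.TameAbh

theorem subfield_closure_eq_top_of_adjoin {L K₁ M : Type u} [Field L] [Field K₁] [Field M] [Algebra L M]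
    (φ : K₁ →+* M) (h : Algebra.adjoin L (Set.range φ) = ⊤) :
    Subfield.closure (Set.range (algebraMap L M) ∪ Set.range φ) = ⊤ := by
  rw [eq_top_iff]
  intro x _
  have hx : x ∈ (Algebra.adjoin L (Set.range φ)).toSubring := by rw [h]; trivial
  rw [Algebra.adjoin_eq_ring_closure] at hx
  exact Subfield.subring_closure_le _ hx

theorem frac_gen {B L V K₁ M : Type u} [CommRing B] [Field L] [Algebra B L] [IsFractionRing B L] [CommRing V]
    [Field K₁] [Algebra V K₁] [IsFractionRing V K₁] [Field M] (φL : L →+* M) (φ : K₁ →+* M)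
    (hgen : Subfield.closure (Set.range φL ∪ Set.range φ) = ⊤) (g : B →+* M) (h : V →+* M)
    (hg : ∀ b, g b = φL (algebraMap B L b)) (hh : ∀ v, h v = φ (algebraMap V K₁ v)) (x : M) :
    ∃ a ∈ Subring.closure (Set.range g ∪ Set.range h),
      ∃ b ∈ Subring.closure (Set.range g ∪ Set.range h), b ≠ 0 ∧ x * b = a := by
  have htop : Subfield.closure (Set.range g ∪ Set.range h) = ⊤ := by
    rw [eq_top_iff, ← hgen, Subfield.closure_le]
    rintro _ (⟨l, rfl⟩ | ⟨l, rfl⟩)
    · obtain ⟨n, d, -, rfl⟩ := IsFractionRing.div_surjective (A := B) l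
      rw [map_div₀, ← hg, ← hg]
      exact div_mem (Subfield.subset_closure (Or.inl ⟨n, rfl⟩)) (Subfield.subset_closure (Or.inl ⟨d, rfl⟩))
    · obtain ⟨n, d, -, rfl⟩ := IsFractionRing.div_surjective (A := V) l
      rw [map_div₀, ← hh, ← hh]
      exact div_mem (Subfield.subset_closure (Or.inr ⟨n, rfl⟩)) (Subfield.subset_closure (Or.inr ⟨d, rfl⟩))
  obtain ⟨y, hy, z, hz, rfl⟩ := Subfield.mem_closure_iff.1 (htop.symm ▸ Subfield.mem_top x :
    x ∈ Subfield.closure (Set.range g ∪ Set.range h))
  rcases eq_or_ne z 0 with rfl | hz0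
  · exact ⟨0, zero_mem _, 1, one_mem _, one_ne_zero, by simp⟩
  · exact ⟨y, hy, z, hz, hz0, div_mul_cancel₀ y hz0⟩

theorem finite_of_adjoin {K L K₁ M : Type u} [Field K] [Field L] [Field K₁] [Field M] [Algebra K L] [Algebra K K₁]
    [FiniteDimensional K K₁] [Algebra L M] (φ : K₁ →+* M)
    (hc : φ.comp (algebraMap K K₁) = (algebraMap L M).comp (algebraMap K L))
    (h : Algebra.adjoin L (Set.range φ) = ⊤) : FiniteDimensional L M := by
  letI : Algebra K M := ((algebraMap L M).comp (algebraMap K L)).toAlgebra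
  haveI : IsScalarTower K L M := IsScalarTower.of_algebraMap_eq fun _ => rfl
  let f₁ : K₁ →ₐ[K] M := { φ with commutes' := RingHom.congr_fun hc }
  let θ : L ⊗[K] K₁ →ₐ[L] M := Algebra.TensorProduct.lift (Algebra.ofId L M) f₁ fun _ _ => mul_comm _ _
  have hθ : Function.Surjective θ := by
    rw [← AlgHom.range_eq_top, eq_top_iff, ← h, Algebra.adjoin_le_iff]
    rintro _ ⟨x, rfl⟩
    exact ⟨1 ⊗ₜ x, by
      show θ (1 ⊗ₜ x) = φ x
      rw [Algebra.TensorProduct.lift_tmul, map_one, one_mul]; rfl⟩
  exact Module.Finite.of_surjective θ.toLinearMap hθ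

/-- Geometric reducedness of the residue field produced by Abhyankar's lemma. -/
theorem geometricallyReduced_of_gen {k kB kV kW : Type u} [Field k] [Field kB] [Field kV] [Field kW]
    [Algebra k kB] [Algebra k kV] [Algebra kV kW] [Algebra.IsGeometricallyReduced k kB]
    [Algebra.IsIntegral k kV] (φB : kB →+* kW)
    (hc : φB.comp (algebraMap k kB) = (algebraMap kV kW).comp (algebraMap k kV))
    (y : kW) (e : ℕ) (he : (e : k) ≠ 0) (a : kB) (ha : a ≠ 0) (b : kV) (hb : b ≠ 0)
    (hy : y ^ e * algebraMap kV kW b = φB a)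
    (hgen : Subring.closure (Set.range φB ∪ Set.range (algebraMap kV kW) ∪ {y}) = ⊤) :
    Algebra.IsGeometricallyReduced kV kW := by
  rw [Algebra.isGeometricallyReduced_field_iff]
  let Ω := AlgebraicClosure kV
  haveI : Algebra.IsIntegral k Ω := Algebra.IsIntegral.trans (R := k) kV
  haveI : Algebra.IsAlgebraic k Ω := Algebra.IsIntegral.isAlgebraic
  haveI : _root_.IsReduced (Ω ⊗[k] kB) := inferInstance
  haveI : _root_.IsReduced (kB ⊗[k] Ω) :=
    isReduced_of_injective _ (Algebra.TensorProduct.comm k kB Ω).injective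
  let iW : kW →+* Ω ⊗[kV] kW := (Algebra.TensorProduct.includeRight : kW →ₐ[kV] Ω ⊗[kV] kW).toRingHom
  let iΩ : Ω →+* Ω ⊗[kV] kW := Algebra.TensorProduct.includeLeftRingHom
  have hcV : ∀ r, iW (algebraMap kV kW r) = iΩ (algebraMap kV Ω r) := fun r =>
    ((Algebra.TensorProduct.includeRight : kW →ₐ[kV] Ω ⊗[kV] kW).commutes r).trans
      ((Algebra.TensorProduct.includeLeft (S := kV) : Ω →ₐ[kV] Ω ⊗[kV] kW).commutes r).symm
  refine (isVNR_of_generators (Or.inl inferInstance) (iW.comp φB) iΩ ?_ (iW y) e he a ha (algebraMap kV Ω b)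
    (by simpa using hb) ?_ ?_).isReduced
  · refine RingHom.ext fun r => ?_
    show iW (φB (algebraMap k kB r)) = iΩ (algebraMap k Ω r)
    rw [RingHom.congr_fun hc r |> fun h => (show φB (algebraMap k kB r) = algebraMap kV kW (algebraMap k kV r) from h),
      hcV, ← IsScalarTower.algebraMap_apply]
  · rw [← map_pow, ← hcV, ← map_mul, hy]; rfl
  · rw [eq_top_iff]
    rintro z -
    induction z using TensorProduct.induction_on with
    | zero => exact zero_mem _
    | tmul p q =>
      rw [show p ⊗ₜ[kV] q = iΩ p * iW q by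
        show _ = (p ⊗ₜ[kV] (1 : kW)) * ((1 : Ω) ⊗ₜ[kV] q)
        rw [Algebra.TensorProduct.tmul_mul_tmul, mul_one, one_mul]]
      refine mul_mem (Subring.subset_closure (Or.inl (Or.inr ⟨p, rfl⟩))) ?_
      have hq : q ∈ Subring.closure (Set.range φB ∪ Set.range (algebraMap kV kW) ∪ {y}) := hgen.symm ▸ Subring.mem_top q
      refine (show Subring.closure (Set.range φB ∪ Set.range (algebraMap kV kW) ∪ {y}) ≤
        (Subring.closure (Set.range (iW.comp φB) ∪ Set.range iΩ ∪ {iW y})).comap iW from ?_) hq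
      rw [Subring.closure_le]
      rintro w ((⟨x, rfl⟩ | ⟨x, rfl⟩) | hw)
      · exact Subring.subset_closure (Or.inl (Or.inl ⟨x, rfl⟩))
      · exact Subring.subset_closure (Or.inl (Or.inr ⟨_, (hcV x).symm⟩))
      · exact Subring.subset_closure (Or.inr (congrArg iW (Set.mem_singleton_iff.1 hw)))
    | add p q hp hq => exact add_mem hp hq

/-- Separability of the residue field produced by Abhyankar's lemma. -/
theorem isSeparable_of_gen {k kB kV kW : Type u} [Field k] [Field kB] [Field kV] [Field kW]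
    [Algebra k kB] [Algebra k kV] [Algebra kV kW] [Algebra.IsSeparable k kB] (φB : kB →+* kW)
    (hc : φB.comp (algebraMap k kB) = (algebraMap kV kW).comp (algebraMap k kV))
    (y : kW) (e : ℕ) (he : (e : k) ≠ 0) (a : kB) (ha : a ≠ 0) (b : kV) (hb : b ≠ 0)
    (hy : y ^ e * algebraMap kV kW b = φB a)
    (hgen : Subring.closure (Set.range φB ∪ Set.range (algebraMap kV kW) ∪ {y}) = ⊤) :
    Algebra.IsSeparable kV kW := by
  rw [← separableClosure.eq_top_iff, eq_top_iff]
  rintro z -
  have hz : z ∈ Subring.closure (Set.range φB ∪ Set.range (algebraMap kV kW) ∪ {y}) := hgen.symm ▸ Subring.mem_top z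
  have hBsep : ∀ x, φB x ∈ separableClosure kV kW := fun x => by
    rw [mem_separableClosure_iff]
    have h1 : (minpoly k x).Separable := Algebra.IsSeparable.isSeparable k x
    refine (h1.map (f := algebraMap k kV)).of_dvd (minpoly.dvd _ _ ?_)
    rw [aeval_def, eval₂_map, ← hc, ← hom_eval₂, ← aeval_def, minpoly.aeval, map_zero]
  refine (show Subring.closure (Set.range φB ∪ Set.range (algebraMap kV kW) ∪ {y}) ≤
    (separableClosure kV kW).toSubalgebra.toSubring from ?_) hz
  rw [Subring.closure_le]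
  rintro w ((⟨x, rfl⟩ | ⟨x, rfl⟩) | hw)
  · exact hBsep x
  · exact (separableClosure kV kW).algebraMap_mem x
  rw [Set.mem_singleton_iff.1 hw]
  show y ∈ separableClosure kV kW
  have he' : (e : separableClosure kV kW) ≠ 0 := by
    rw [← map_natCast ((algebraMap kV (separableClosure kV kW)).comp (algebraMap k kV)) e]
    exact fun h => he ((map_eq_zero _).1 h)
  let c : separableClosure kV kW := ⟨φB a * (algebraMap kV kW b)⁻¹,
    mul_mem (hBsep a) (inv_mem ((separableClosure kV kW).algebraMap_mem b))⟩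
  have hc0 : c ≠ 0 := fun h => by
    have := congrArg Subtype.val h
    simp [c, ha, hb] at this
  have hsep : IsSeparable (separableClosure kV kW) y := by
    refine (separable_X_pow_sub_C c he' hc0).of_dvd (minpoly.dvd _ _ ?_)
    rw [map_sub, map_pow, aeval_X, aeval_C, sub_eq_zero]
    show y ^ e = φB a * (algebraMap kV kW b)⁻¹
    rw [← hy, mul_assoc, mul_inv_cancel₀ (by simpa using hb), mul_one]
  rw [mem_separableClosure_iff]
  exact IsSeparable.of_algebra_isSeparable_of_isSeparable kV hsep

end Groth.Agent.TameAbh
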