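import Mathlib

/-! The discrete valuation ring obtained by adjoining a root of a uniformizer (any exponent). -/

set_option autoImplicit false
set_option linter.all false
universe u
open Polynomial

noncomputable section

namespace Groth.Agent.TameAbh

theorem adjoinRoot_dvr (A : Type u) [CommRing A] [IsDomain A] [IsDiscreteValuationRing A] (π : A)
    (hπ : Irreducible π) (n : ℕ) (hn : n ≠ 0) :
    ∃ (_ : IsDomain (AdjoinRoot (X ^ n - C π : A[X]))) (_ : IsDiscreteValuationRing (AdjoinRoot (X ^ n - C π : A[X]))),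
      IsLocalHom (algebraMap A (AdjoinRoot (X ^ n - C π : A[X]))) ∧
      AdjoinRoot.root (X ^ n - C π : A[X]) ^ n = algebraMap A (AdjoinRoot (X ^ n - C π : A[X])) π ∧
      IsLocalRing.maximalIdeal (AdjoinRoot (X ^ n - C π : A[X])) = Ideal.span {AdjoinRoot.root (X ^ n - C π : A[X])} ∧
      (∀ x : AdjoinRoot (X ^ n - C π : A[X]), ∃ a : A, x - algebraMap A (AdjoinRoot (X ^ n - C π : A[X])) a ∈
        Ideal.span {AdjoinRoot.root (X ^ n - C π : A[X])}) ∧
      Function.Injective (algebraMap A (AdjoinRoot (X ^ n - C π : A[X]))) := by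
  classical
  have hn0 : n ≠ 0 := hn
  have hmA : IsLocalRing.maximalIdeal A = Ideal.span {π} :=
    (IsDiscreteValuationRing.irreducible_iff_uniformizer π).1 hπ
  set P : Ideal A := Ideal.span {π} with hP
  haveI hPp : P.IsPrime := hmA ▸ (IsLocalRing.maximalIdeal.isMaximal A).isPrime
  set f : A[X] := X ^ n - C π with hf
  have hfm : f.Monic := monic_X_pow_sub_C π hn0
  have hdeg : f.natDegree = n := natDegree_X_pow_sub_C
  have hirr : Irreducible f := by
    refine irreducible_of_eisenstein_criterion hPp ?_ (fun k hk => ?_) ?_ ?_ hfm.isPrimitive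
    · rw [hfm.leadingCoeff]; exact hPp.one_notMem
    · rw [degree_X_pow_sub_C (Nat.pos_of_ne_zero hn0), Nat.cast_lt] at hk
      rw [coeff_sub, coeff_X_pow, if_neg hk.ne, coeff_C, zero_sub]
      split_ifs with h
      · exact neg_mem (Ideal.mem_span_singleton_self π)
      · simp
    · rw [degree_X_pow_sub_C (Nat.pos_of_ne_zero hn0)]
      exact_mod_cast Nat.pos_of_ne_zero hn0
    · rw [coeff_sub, coeff_X_pow, if_neg hn0.symm, coeff_C_zero, zero_sub, neg_mem_iff,
        hP, pow_two, Ideal.span_singleton_mul_span_singleton, Ideal.mem_span_singleton]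
      intro hd
      exact hπ.not_isUnit (isUnit_of_dvd_one ((mul_dvd_mul_iff_left hπ.ne_zero).1 (by simpa using hd)))
  haveI hdom : IsDomain (AdjoinRoot f) := AdjoinRoot.isDomain_of_prime hirr.prime
  haveI hfin : Module.Finite A (AdjoinRoot f) := hfm.finite_adjoinRoot
  let R := AdjoinRoot f
  let Y : R := AdjoinRoot.root f
  have hY : Y ^ n = algebraMap A R π := by
    have h := AdjoinRoot.eval₂_root f
    rw [eval₂_sub, eval₂_X_pow, eval₂_C, sub_eq_zero] at h
    exact h
  have hdec : ∀ x : R, ∃ a : A, x - algebraMap A R a ∈ Ideal.span {Y} := by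
    intro x
    obtain ⟨g, rfl⟩ := AdjoinRoot.mk_surjective x
    refine ⟨g.coeff 0, ?_⟩
    rw [show algebraMap A R (g.coeff 0) = AdjoinRoot.mk f (C (g.coeff 0)) from rfl, ← map_sub,
      ← X_mul_divX_add g, coeff_add, coeff_C_zero, mul_coeff_zero, coeff_X_zero, zero_mul, zero_add,
      add_sub_cancel_right, map_mul, AdjoinRoot.mk_X]
    exact Ideal.mul_mem_right _ _ (Ideal.mem_span_singleton_self _)
  let φ : R →+* A ⧸ P := AdjoinRoot.lift (Ideal.Quotient.mk P) 0 (by
    rw [eval₂_sub, eval₂_X_pow, eval₂_C, zero_pow hn0, zero_sub, neg_eq_zero, Ideal.Quotient.eq_zero_iff_mem]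
    exact Ideal.mem_span_singleton_self π)
  have hker : RingHom.ker φ = Ideal.span {Y} := by
    refine le_antisymm (fun x hx => ?_) ((Ideal.span_singleton_le_iff_mem _).2 (AdjoinRoot.lift_root _))
    obtain ⟨a, ha⟩ := hdec x
    obtain ⟨w, hw⟩ := Ideal.mem_span_singleton'.1 ha
    have h0 : Ideal.Quotient.mk P a = 0 := by
      have e := congrArg φ hw
      rw [map_mul, map_sub, RingHom.mem_ker.1 hx, show φ Y = 0 from AdjoinRoot.lift_root _, mul_zero,
        zero_sub, eq_comm, neg_eq_zero] at e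
      rwa [show φ (algebraMap A R a) = Ideal.Quotient.mk P a from AdjoinRoot.lift_of _] at e
    obtain ⟨c, rfl⟩ := Ideal.mem_span_singleton'.1 (Ideal.Quotient.eq_zero_iff_mem.1 h0)
    rw [show x = w * Y + algebraMap A R c * Y ^ n by rw [hw, hY, ← map_mul]; ring]
    exact add_mem (Ideal.mul_mem_left _ _ (Ideal.mem_span_singleton_self Y))
      (Ideal.mul_mem_left _ _ (Ideal.pow_mem_of_mem _ (Ideal.mem_span_singleton_self Y) n (Nat.pos_of_ne_zero hn0)))
  haveI : P.IsMaximal := hmA ▸ IsLocalRing.maximalIdeal.isMaximal A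
  letI : Field (A ⧸ P) := Ideal.Quotient.field P
  have hYmax : (Ideal.span {Y}).IsMaximal := hker ▸ RingHom.ker_isMaximal_of_surjective φ (fun z => by
    obtain ⟨a, rfl⟩ := Ideal.Quotient.mk_surjective z
    exact ⟨algebraMap A R a, AdjoinRoot.lift_of _⟩)
  haveI : Algebra.IsIntegral A R := Algebra.IsIntegral.of_finite A R
  have huniq : ∀ M : Ideal R, M.IsMaximal → M = Ideal.span {Y} := by
    intro M hM
    have hc : M.comap (algebraMap A R) = IsLocalRing.maximalIdeal A :=
      IsLocalRing.eq_maximalIdeal (Ideal.isMaximal_comap_of_isIntegral_of_isMaximal M)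
    have hπM : algebraMap A R π ∈ M := Ideal.mem_comap.1 (hc ▸ hmA ▸ Ideal.mem_span_singleton_self π)
    rw [← hY] at hπM
    exact (hYmax.eq_of_le hM.ne_top ((Ideal.span_singleton_le_iff_mem _).2 (hM.isPrime.mem_of_pow_mem n hπM))).symm
  haveI hlocal : IsLocalRing R := IsLocalRing.of_unique_max_ideal ⟨_, hYmax, huniq⟩
  have hmR : IsLocalRing.maximalIdeal R = Ideal.span {Y} := huniq _ (IsLocalRing.maximalIdeal.isMaximal R)
  have hmk0 : ∀ a : A, algebraMap A R a = 0 → a = 0 := fun a ha => by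
    have h : f ∣ C a := AdjoinRoot.mk_eq_zero.1 ha
    by_contra hne
    have := natDegree_le_of_dvd h (by simpa using hne)
    rw [natDegree_C, hdeg] at this
    omega
  have hπ0 : algebraMap A R π ≠ 0 := fun h => hπ.ne_zero (hmk0 π h)
  have hY0 : Y ≠ 0 := fun h => hπ0 (by rw [← hY, h, zero_pow hn0])
  haveI : IsNoetherianRing R := IsNoetherianRing.of_finite A R
  haveI : IsPrincipalIdealRing R :=
    ((tfae_of_isNoetherianRing_of_isLocalRing_of_isDomain (R := R)).out 4 0).1
      (show (IsLocalRing.maximalIdeal R).IsPrincipal from ⟨⟨Y, hmR⟩⟩)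
  haveI hdvr : IsDiscreteValuationRing R := { not_a_field' := fun h => hY0 (by
    rw [hmR, Ideal.span_singleton_eq_bot] at h; exact h) }
  haveI hloc : IsLocalHom (algebraMap A R) := ⟨fun a ha => by
    by_contra hu
    obtain ⟨c, rfl⟩ : ∃ c, c * π = a := Ideal.mem_span_singleton'.1 (hmA.le hu)
    rw [map_mul, ← hY] at ha
    exact hYmax.ne_top (Ideal.eq_top_of_isUnit_mem _ (Ideal.mul_mem_left _ _
      (Ideal.pow_mem_of_mem _ (Ideal.mem_span_singleton_self Y) n (Nat.pos_of_ne_zero hn0))) ha)⟩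
  refine ⟨hdom, hdvr, hloc, hY, hmR, hdec, fun a b h => ?_⟩
  rw [← sub_eq_zero]
  exact hmk0 _ (by rw [map_sub, h, sub_self])

end Groth.Agent.TameAbh
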