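import Mathlib
import Groth.Prelude.Def_EtRam
import Groth.Agent.TameAbh.Field
import Groth.Agent.TameAbh.Root
import Groth.Agent.EtRamTower.Basic

/-! Consequences of Abhyankar's lemma for separable residue extensions. -/

set_option autoImplicit false
set_option linter.all false
universe u
open IsLocalRing Polynomial
open scoped TensorProduct

noncomputable section

namespace Groth.Agent.TameAbh

theorem isGeometricallyReduced_of_isSeparable (k L : Type u) [Field k] [Field L] [Algebra k L]
    [Algebra.IsSeparable k L] : Algebra.IsGeometricallyReduced k L := by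
  refine Algebra.IsGeometricallyReduced.of_forall_fg fun D hD => ?_
  obtain ⟨s, rfl⟩ := hD
  let E := IntermediateField.adjoin k (s : Set L)
  haveI : FiniteDimensional k E :=
    IntermediateField.finiteDimensional_adjoin fun x _ => Algebra.IsIntegral.isIntegral x
  have hle : Algebra.adjoin k (s : Set L) ≤ E.toSubalgebra := IntermediateField.algebra_adjoin_le_adjoin k _
  haveI : Algebra.IsSeparable k E := Algebra.isSeparable_tower_bot_of_isSeparable k E L
  haveI : Algebra.IsGeometricallyReduced k E := by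
    rw [Algebra.isGeometricallyReduced_field_iff]
    haveI : Algebra.FormallyUnramified k E := Algebra.FormallyUnramified.of_isSeparable k E
    exact Algebra.FormallyUnramified.isReduced_of_field (AlgebraicClosure k) _
  exact Algebra.IsGeometricallyReduced.of_injective (B := E) (Subalgebra.inclusion hle) (Subalgebra.inclusion_injective hle)

/-- Abhyankar's lemma with a separable residue extension. -/
theorem sep_step {A B V L K₁ F : Type u} [CommRing A] [IsLocalRing A] [CommRing B] [IsLocalRing B] [CommRing V]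
    [IsLocalRing V] [Field L] [Algebra B L] [IsFractionRing B L] [Field K₁] [Algebra V K₁] [IsFractionRing V K₁]
    [Field F] (φL : L →+* F) (φ : K₁ →+* F) (hgen : Subfield.closure (Set.range φL ∪ Set.range φ) = ⊤)
    (W : ValuationSubring F) [IsDiscreteValuationRing W]
    [Algebra A B] [Algebra A V] [IsLocalHom (algebraMap A B)] [IsLocalHom (algebraMap A V)]
    (iB : B →+* W) (iV : V →+* W) [IsLocalHom iB] [IsLocalHom iV]
    (hiB : ∀ b, (iB b : F) = φL (algebraMap B L b)) (hiV : ∀ b, (iV b : F) = φ (algebraMap V K₁ b))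
    (hc : iB.comp (algebraMap A B) = iV.comp (algebraMap A V))
    [Algebra.IsSeparable (ResidueField A) (ResidueField B)]
    (ϖ : B) (hϖ : maximalIdeal B = Ideal.span {ϖ}) (π₁ : V) (hπ₁ : maximalIdeal V = Ideal.span {π₁})
    (hπ₀ : iV π₁ ≠ 0) (e d : ℕ) (he : (e : ResidueField A) ≠ 0) (hd : d ≠ 0) (a : A) (u : Bˣ) (v : Vˣ)
    (ha : algebraMap A B a = u * ϖ ^ e) (hb : algebraMap A V a = v * π₁ ^ (e * d)) :
    maximalIdeal W = Ideal.span {iV π₁} ∧
      (letI := (ResidueField.map iV).toAlgebra
       Algebra.IsSeparable (ResidueField V) (ResidueField W)) := by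
  haveI := isGeometricallyReduced_of_isSeparable (ResidueField A) (ResidueField B)
  haveI : _root_.IsReduced (ResidueField V ⊗[ResidueField A] ResidueField B) :=
    GeomRedPull.isReduced_field_tensor (ResidueField V)
  haveI : _root_.IsReduced (ResidueField B ⊗[ResidueField A] ResidueField V) :=
    isReduced_of_injective _ (Algebra.TensorProduct.comm (ResidueField A) (ResidueField B) (ResidueField V)).injective
  haveI : Algebra.IsIntegral (ResidueField A) (ResidueField B) := inferInstance
  obtain ⟨hmax, y, hy, hgen'⟩ := abhyankar W iB iV hc (Or.inr inferInstance)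
    (frac_gen (B := B) (V := V) φL φ hgen _ _ hiB hiV) ϖ hϖ π₁ hπ₁ hπ₀ e d he hd a u v ha hb
  refine ⟨hmax, ?_⟩
  letI := (ResidueField.map iV).toAlgebra
  refine isSeparable_of_gen (k := ResidueField A) (kB := ResidueField B) (ResidueField.map iB) ?_ y e he _
    (u.isUnit.map (residue B)).ne_zero _ (v.isUnit.map (residue V)).ne_zero hy hgen'
  refine RingHom.ext fun x => ?_
  obtain ⟨x, rfl⟩ := residue_surjective x
  exact congrArg (residue W) (RingHom.congr_fun hc x)

/-- Unramified and tame extensions after base change. -/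
theorem tame_step {A B V L K₁ F : Type u} [CommRing A] [IsLocalRing A] [CommRing B] [IsDomain B]
    [IsDiscreteValuationRing B] [CommRing V] [IsLocalRing V] [Field L] [Algebra B L] [IsFractionRing B L]
    [Field K₁] [Algebra V K₁] [IsFractionRing V K₁]
    [Field F] (φL : L →+* F) (φ : K₁ →+* F) (hgen : Subfield.closure (Set.range φL ∪ Set.range φ) = ⊤)
    (W : ValuationSubring F) [IsDiscreteValuationRing W]
    [Algebra A B] [Algebra A V] [IsLocalHom (algebraMap A B)] [IsLocalHom (algebraMap A V)]
    (iB : B →+* W) (iV : V →+* W) [IsLocalHom iB] [IsLocalHom iV]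
    (hiB : ∀ b, (iB b : F) = φL (algebraMap B L b)) (hiV : ∀ b, (iV b : F) = φ (algebraMap V K₁ b))
    (hc : iB.comp (algebraMap A B) = iV.comp (algebraMap A V))
    [Algebra.IsSeparable (ResidueField A) (ResidueField V)]
    (ϖ : V) (hϖ : maximalIdeal V = Ideal.span {ϖ}) (e : ℕ) (he : (e : ResidueField A) ≠ 0)
    (a : A) (u : Vˣ) (ha : algebraMap A V a = u * ϖ ^ e) (ha' : ¬ IsUnit a) (ha0 : algebraMap A B a ≠ 0) :
    (∃ n, n ∣ e ∧ (maximalIdeal B).map iB = maximalIdeal W ^ n) ∧
      (letI := (ResidueField.map iB).toAlgebra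
       Algebra.IsSeparable (ResidueField B) (ResidueField W)) := by
  classical
  have he0 : e ≠ 0 := by rintro rfl; simp at he
  obtain ⟨b, hb⟩ := IsDiscreteValuationRing.exists_irreducible B
  obtain ⟨ϖW, hϖW⟩ := IsDiscreteValuationRing.exists_irreducible W
  obtain ⟨e₁, v, hv⟩ := IsDiscreteValuationRing.eq_unit_mul_pow_irreducible ha0 hb
  have he₁ : e₁ ≠ 0 := by
    rintro rfl
    rw [pow_zero, mul_one] at hv
    exact ha' ((hv ▸ v.isUnit).of_map (algebraMap A B) a)
  obtain ⟨hdom, hdvr, hloc, hY, hmR, hdec, hinjR⟩ := adjoinRoot_dvr B b hb e he0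
  set R := AdjoinRoot (X ^ e - C b : B[X])
  set Y : R := AdjoinRoot.root (X ^ e - C b : B[X]) with hYdef
  let Ω := AlgebraicClosure F
  obtain ⟨ρ, hρ⟩ := IsAlgClosed.exists_pow_nat_eq (algebraMap F Ω (iB b : F)) (Nat.pos_of_ne_zero he0)
  let F' := IntermediateField.adjoin F ({ρ} : Set Ω)
  haveI : FiniteDimensional F F' :=
    IntermediateField.adjoin.finiteDimensional (Algebra.IsIntegral.isIntegral ρ)
  let ρ' : F' := ⟨ρ, IntermediateField.mem_adjoin_simple_self F ρ⟩
  have hρ' : ρ' ^ e = algebraMap F F' (iB b : F) := Subtype.ext hρ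
  obtain ⟨W', hW'⟩ := EtRamTower.exists_comap_eq (algebraMap F F') W
  have hWW' : ∀ x : W, algebraMap F F' (x : F) ∈ W' := fun x =>
    ValuationSubring.mem_comap.1 (hW'.symm ▸ x.2 : (x : F) ∈ W'.comap (algebraMap F F'))
  let jW : W →+* W' := RingHom.codRestrict ((algebraMap F F').comp W.subtype) W' hWW'
  have hdom' : EtRam.Dominates W ((algebraMap F F').comp (algebraMap W F)) W' := by
    refine (EtRamTower.dominates_comap_iff (algebraMap F F') (algebraMap W F) W').1 ?_
    rw [hW']
    exact ⟨fun x => x.2, fun x hx => (W.valuation_lt_one_iff x).1 hx⟩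
  haveI : IsDiscreteValuationRing W' := isDVR_of_dominates (A := W) (K := F) W' hdom'
  haveI : IsLocalHom jW := EtRamTower.isLocalHom_codRestrict _ _ hdom'
  have hρW : ρ' ∈ W' := by
    rcases W'.mem_or_inv_mem ρ' with h | h
    · exact h
    rcases eq_or_ne ρ' 0 with h0 | h0
    · rw [h0]; exact zero_mem _
    rw [show ρ' = ρ' ^ e * ρ'⁻¹ ^ (e - 1) by
      conv_rhs => rw [show e = (e - 1) + 1 by omega, pow_succ, Nat.add_sub_cancel]
      rw [mul_comm (ρ' ^ (e - 1)), mul_assoc, ← mul_pow, mul_inv_cancel₀ h0, one_pow, mul_one]]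
    exact mul_mem (hρ' ▸ hWW' (iB b)) (pow_mem h _)
  let ρW : W' := ⟨ρ', hρW⟩
  have hρWe : ρW ^ e = jW (iB b) := Subtype.ext hρ'
  let iR : R →+* W' := AdjoinRoot.lift (jW.comp iB) ρW (by
    rw [eval₂_sub, eval₂_X_pow, eval₂_C, hρWe]; exact sub_self _)
  have hiRB : ∀ x, iR (algebraMap B R x) = jW (iB x) := fun x => AdjoinRoot.lift_of _
  have hiRY : iR Y = ρW := AdjoinRoot.lift_root _
  have hbW : ¬ IsUnit (jW (iB b)) := fun h => hb.not_isUnit ((h.of_map jW _).of_map iB b)
  have hρnu : ¬ IsUnit ρW := fun h => hbW (hρWe ▸ h.pow e)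
  haveI : IsLocalHom iR := ⟨fun x hx => by
    by_contra hnu
    obtain ⟨c, rfl⟩ := Ideal.mem_span_singleton'.1 (hmR.le hnu)
    rw [map_mul, hiRY] at hx
    exact hρnu (isUnit_of_mul_isUnit_right hx)⟩
  have hiB0 : jW (iB b) ≠ 0 := fun h => by
    have h1 : algebraMap F F' (iB b : F) = 0 := congrArg Subtype.val h
    rw [map_eq_zero, hiB, map_eq_zero] at h1
    exact hb.ne_zero ((map_eq_zero_iff _ (IsFractionRing.injective B L)).1 h1)
  haveI : Algebra.IsIntegral B R :=
    haveI : Module.Finite B R := (monic_X_pow_sub_C b he0).finite_adjoinRoot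
    Algebra.IsIntegral.of_finite B R
  have hiRinj : Function.Injective (W'.subtype.comp iR) := by
    refine RingHom.injective_iff_ker_eq_bot _ |>.2 (Ideal.eq_bot_of_comap_eq_bot (R := B) (eq_bot_iff.2 fun x hx => ?_))
    rw [Ideal.mem_comap, RingHom.mem_ker, RingHom.comp_apply, hiRB] at hx
    change algebraMap F F' (iB x : F) = 0 at hx
    rw [map_eq_zero, hiB, map_eq_zero, map_eq_zero_iff _ (IsFractionRing.injective B L)] at hx
    exact hx
  let φR : FractionRing R →+* F' := IsFractionRing.lift hiRinj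
  have hφR : ∀ x, φR (algebraMap R _ x) = (iR x : F') := fun x => IsFractionRing.lift_algebraMap hiRinj x
  let S := Subfield.closure (Set.range ((algebraMap F F').comp φ) ∪ Set.range φR)
  have hB' : ∀ l, algebraMap F F' (φL l) ∈ S := fun l => by
    obtain ⟨n, d, -, rfl⟩ := IsFractionRing.div_surjective (A := B) l
    rw [map_div₀, map_div₀, ← hiB, ← hiB]
    exact div_mem (Subfield.subset_closure (Or.inr ⟨algebraMap R _ (algebraMap B R n), by rw [hφR, hiRB]; rfl⟩))
      (Subfield.subset_closure (Or.inr ⟨algebraMap R _ (algebraMap B R d), by rw [hφR, hiRB]; rfl⟩))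
  have hgen' : S = ⊤ := by
    rw [eq_top_iff]
    rintro ⟨x, hx⟩ -
    have hFS : ∀ z : F, algebraMap F F' z ∈ S := fun z => by
      refine (show Subfield.closure (Set.range φL ∪ Set.range φ) ≤ S.comap (algebraMap F F') from ?_)
        (hgen.symm ▸ Subfield.mem_top z)
      rw [Subfield.closure_le]
      rintro _ (⟨l, rfl⟩ | ⟨l, rfl⟩)
      · exact hB' l
      · exact Subfield.subset_closure (Or.inl ⟨l, rfl⟩)
    induction hx using IntermediateField.adjoin_induction with
    | mem z hz =>
      rw [show (⟨z, _⟩ : F') = ρ' from Subtype.ext (Set.mem_singleton_iff.1 hz)]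
      exact Subfield.subset_closure (Or.inr ⟨algebraMap R _ Y, by rw [hφR, hiRY]⟩)
    | algebraMap z => exact hFS z
    | add z w hz hw h h' => exact add_mem h h'
    | inv z hz h => exact inv_mem h
    | mul z w hz hw h h' => exact mul_mem h h'
  letI : Algebra A R := ((algebraMap B R).comp (algebraMap A B)).toAlgebra
  haveI : IsLocalHom (algebraMap A R) := RingHom.isLocalHom_comp _ _
  haveI : IsLocalHom (jW.comp iV) := RingHom.isLocalHom_comp _ _
  have hcR : (jW.comp iV).comp (algebraMap A V) = iR.comp (algebraMap A R) := RingHom.ext fun x => by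
    show jW (iV (algebraMap A V x)) = iR (algebraMap B R (algebraMap A B x))
    rw [hiRB]
    exact congrArg jW (RingHom.congr_fun hc x).symm
  obtain ⟨hmax', hsep'⟩ := sep_step (A := A) (B := V) (V := R) ((algebraMap F F').comp φ) φR hgen' W'
    (jW.comp iV) iR (fun x => by show algebraMap F F' (iV x : F) = _; rw [hiV]; rfl) (fun x => (hφR x).symm)
    hcR ϖ hϖ Y hmR (fun h => hiB0 (by rw [← hρWe, ← hiRY, h, zero_pow he0])) e e₁ he he₁ a u
    (Units.map (algebraMap B R).toMonoidHom v) ha (by
      show algebraMap B R (algebraMap A B a) = _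
      rw [hv, map_mul, map_pow, ← hY, ← pow_mul]; rfl)
  rw [hiRY] at hmax'
  refine ⟨?_, ?_⟩
  · have hiBb : iB b ≠ 0 := fun h => hiB0 (by rw [h, map_zero])
    obtain ⟨n, c, hn⟩ := IsDiscreteValuationRing.eq_unit_mul_pow_irreducible hiBb hϖW
    have hρirr : Irreducible ρW := (IsDiscreteValuationRing.irreducible_iff_uniformizer ρW).2 hmax'
    have hjW0 : jW ϖW ≠ 0 := fun h => hϖW.ne_zero (Subtype.ext ((map_eq_zero (algebraMap F F')).1
      (congrArg Subtype.val h)))
    obtain ⟨m, c', hm⟩ := IsDiscreteValuationRing.eq_unit_mul_pow_irreducible hjW0 hρirr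
    have h2 : IsDiscreteValuationRing.addVal W' (ρW ^ e) = IsDiscreteValuationRing.addVal W'
        ((Units.map jW.toMonoidHom c * c' ^ n : W'ˣ) * ρW ^ (n * m)) := by
      rw [hρWe, hn, map_mul, map_pow, hm]
      congr 1
      rw [mul_pow, ← pow_mul, mul_comm m n, Units.val_mul, Units.val_pow_eq_pow_val, ← mul_assoc]
      rfl
    rw [IsDiscreteValuationRing.addVal_def' _ hρirr, IsDiscreteValuationRing.addVal_pow,
      IsDiscreteValuationRing.addVal_uniformizer hρirr] at h2
    have hnm : e = n * m := by exact_mod_cast (by simpa using h2 : (e : ℕ∞) = (n : ℕ∞) * (m : ℕ∞))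
    refine ⟨n, ⟨m, hnm⟩, ?_⟩
    rw [(IsDiscreteValuationRing.irreducible_iff_uniformizer b).1 hb, Ideal.map_span, Set.image_singleton, hn,
      Ideal.span_singleton_mul_left_unit c.isUnit, (IsDiscreteValuationRing.irreducible_iff_uniformizer ϖW).1 hϖW,
      Ideal.span_singleton_pow]
  · letI : Algebra B W := iB.toAlgebra
    haveI : IsLocalHom (algebraMap B W) := ‹IsLocalHom iB›
    letI : Algebra W W' := jW.toAlgebra
    haveI : IsLocalHom (algebraMap W W') := ‹IsLocalHom jW›
    letI : Algebra B W' := (jW.comp iB).toAlgebra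
    haveI : IsLocalHom (algebraMap B W') := RingHom.isLocalHom_comp jW iB
    haveI : IsScalarTower B W W' := IsScalarTower.of_algebraMap_eq fun _ => rfl
    letI : Algebra R W' := iR.toAlgebra
    haveI : IsLocalHom (algebraMap R W') := ‹IsLocalHom iR›
    haveI : IsScalarTower B R W' := IsScalarTower.of_algebraMap_eq fun x => (hiRB x).symm
    haveI : IsLocalHom (algebraMap B R) := hloc
    have hBR : Algebra.IsSeparable (ResidueField B) (ResidueField R) := by
      refine ⟨fun z => ?_⟩
      obtain ⟨z, rfl⟩ := residue_surjective z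
      obtain ⟨x, hx⟩ := hdec z
      rw [show residue R z = algebraMap (ResidueField B) (ResidueField R) (residue B x) by
        show _ = residue R (algebraMap B R x)
        rw [← sub_eq_zero, ← map_sub, residue_eq_zero_iff, hmR]; exact hx]
      exact isSeparable_algebraMap _
    have hsepR : Algebra.IsSeparable (ResidueField R) (ResidueField W') := by
      convert hsep' using 2
      exact Algebra.algebra_ext _ _ fun z => by obtain ⟨z, rfl⟩ := residue_surjective z; rfl
    have hall : Algebra.IsSeparable (ResidueField B) (ResidueField W') :=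
      EtRamTower.isSeparable_residue_iff.2 ⟨hBR, hsepR⟩
    convert (EtRamTower.isSeparable_residue_iff (V := W).1 hall).1 using 2
    exact Algebra.algebra_ext _ _ fun z => by obtain ⟨z, rfl⟩ := residue_surjective z; rfl

end Groth.Agent.TameAbh
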