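import Mathlib
import Groth.Prelude.Def_EtRam
import Groth.Agent.TameAbh.Steps

/-! Base change of tame and unramified extensions along an extension of DVRs. -/

set_option autoImplicit false
set_option linter.all false
universe u
open IsLocalRing
open scoped TensorProduct

noncomputable section

namespace Groth.Agent.TameAbh

theorem ramificationIdx'_eq {A B : Type u} [CommRing A] [IsLocalRing A] [CommRing B] [IsDomain B]
    [IsDiscreteValuationRing B] [Algebra A B] {n : ℕ}
    (h : (maximalIdeal A).map (algebraMap A B) = maximalIdeal B ^ n) :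
    Ideal.ramificationIdx' (maximalIdeal A) (maximalIdeal B) = n :=
  Ideal.ramificationIdx'_spec h.le fun hle =>
    (Ideal.pow_succ_lt_pow (IsDiscreteValuationRing.not_a_field B) n).not_ge (h.ge.trans hle)

theorem natCast_residue_ne_zero {A B : Type u} [CommRing A] [IsLocalRing A] [CommRing B] [IsLocalRing B]
    [Algebra A B] [IsLocalHom (algebraMap A B)] (e : ℕ) (h : (e : ResidueField A) ≠ 0) :
    (e : ResidueField B) ≠ 0 := by
  rw [← map_natCast (algebraMap (ResidueField A) (ResidueField B))]
  exact fun h' => h ((map_eq_zero _).1 h')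

theorem tame_unramified_compositum {A B K L K' F : Type u} [CommRing A] [IsDomain A] [IsDiscreteValuationRing A]
    [CommRing B] [IsDomain B] [IsDiscreteValuationRing B] [Algebra A B] [IsLocalHom (algebraMap A B)]
    [Field K] [Field L] [Field K'] [Field F] [Algebra A K] [IsFractionRing A K] [Algebra B L] [IsFractionRing B L]
    [Algebra K L] [Algebra K K'] [FiniteDimensional K K'] [Algebra L F] [FiniteDimensional L F]
    (hinj : Function.Injective (algebraMap A B))
    (hAB : ∀ a, algebraMap K L (algebraMap A K a) = algebraMap B L (algebraMap A B a))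
    (φ : K' →+* F) (hc : φ.comp (algebraMap K K') = (algebraMap L F).comp (algebraMap K L))
    (hgen : Subfield.closure (Set.range (algebraMap L F) ∪ Set.range φ) = ⊤) :
    (EtRam.IsTamelyRamified A ((algebraMap K K').comp (algebraMap A K)) →
      EtRam.IsTamelyRamified B ((algebraMap L F).comp (algebraMap B L))) ∧
    (EtRam.IsUnramifiedExt A ((algebraMap K K').comp (algebraMap A K)) →
      EtRam.IsUnramifiedExt B ((algebraMap L F).comp (algebraMap B L))) := by
  classical
  suffices key : ∀ (W : ValuationSubring F) (hW : EtRam.Dominates B ((algebraMap L F).comp (algebraMap B L)) W)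
      (hV : EtRam.Dominates A ((algebraMap K K').comp (algebraMap A K)) (W.comap φ)),
      letI : Algebra A (W.comap φ) := (RingHom.codRestrict ((algebraMap K K').comp (algebraMap A K)) _ hV.1).toAlgebra
      letI : Algebra B W := (RingHom.codRestrict ((algebraMap L F).comp (algebraMap B L)) _ hW.1).toAlgebra
      ∀ [IsLocalHom (algebraMap A (W.comap φ))] [IsLocalHom (algebraMap B W)],
      Algebra.IsSeparable (ResidueField A) (ResidueField (W.comap φ)) →
      ((Ideal.ramificationIdx' (maximalIdeal A) (maximalIdeal (W.comap φ)) : ℕ) : ResidueField A) ≠ 0 →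
      (∃ n, n ∣ Ideal.ramificationIdx' (maximalIdeal A) (maximalIdeal (W.comap φ)) ∧
        (maximalIdeal B).map (algebraMap B W) = maximalIdeal W ^ n ∧
        Ideal.ramificationIdx' (maximalIdeal B) (maximalIdeal W) = n) ∧
        Algebra.IsSeparable (ResidueField B) (ResidueField W) by
    have hVdom : ∀ (W : ValuationSubring F) (hW : EtRam.Dominates B ((algebraMap L F).comp (algebraMap B L)) W),
        EtRam.Dominates A ((algebraMap K K').comp (algebraMap A K)) (W.comap φ) := fun W hW => by
      refine (EtRamTower.dominates_comap_iff φ _ W).2 ?_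
      have : φ.comp ((algebraMap K K').comp (algebraMap A K)) =
          ((algebraMap L F).comp (algebraMap B L)).comp (algebraMap A B) := RingHom.ext fun a => by
        show φ (algebraMap K K' (algebraMap A K a)) = algebraMap L F (algebraMap B L (algebraMap A B a))
        rw [← hAB]; exact RingHom.congr_fun hc _
      rw [this]
      exact ⟨fun a => hW.1 _, fun a ha => hW.2 _ (map_nonunit (algebraMap A B) a ha)⟩
    refine ⟨fun h W hW => ?_, fun h W hW => ?_⟩
    · intro hloc
      have hV := hVdom W hW
      letI : Algebra A (W.comap φ) := (RingHom.codRestrict ((algebraMap K K').comp (algebraMap A K)) _ hV.1).toAlgebra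
      haveI : IsLocalHom (algebraMap A (W.comap φ)) := EtRamTower.isLocalHom_codRestrict _ _ hV
      obtain ⟨hs, he⟩ := h _ hV
      haveI := isDVR_of_dominates (A := A) (K := K) (W.comap φ) hV
      obtain ⟨π, hπ⟩ := IsDiscreteValuationRing.exists_irreducible A
      obtain ⟨ϖ, hϖ⟩ := IsDiscreteValuationRing.exists_irreducible (W.comap φ)
      obtain ⟨-, -, he0, -⟩ := exists_pow_eq (A := A) (K := K) (W.comap φ) (fun a => rfl) π hπ ϖ hϖ
      have hne : ((Ideal.ramificationIdx' (maximalIdeal A) (maximalIdeal (W.comap φ)) : ℕ) : ResidueField A) ≠ 0 := by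
        obtain ⟨p, hp⟩ := CharP.exists (ResidueField A)
        rcases CharP.char_is_prime_or_zero (ResidueField A) p with hpp | hp0
        · exact fun h0 => he p hpp hp ((CharP.cast_eq_zero_iff _ p _).1 h0)
        · subst hp0
          haveI := CharP.charP_to_charZero (ResidueField A)
          exact Nat.cast_ne_zero.2 he0
      obtain ⟨⟨n, hn, -, hn'⟩, hsep⟩ := key W hW hV hs hne
      refine ⟨hsep, fun p hp hpB => ?_⟩
      rw [hn']
      haveI : CharP (ResidueField A) p :=
        (RingHom.charP_iff (algebraMap (ResidueField A) (ResidueField B)) (RingHom.injective _) p).2 hpB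
      exact fun hdvd => he p hp inferInstance (hdvd.trans hn)
    · intro hloc
      have hV := hVdom W hW
      letI : Algebra A (W.comap φ) := (RingHom.codRestrict ((algebraMap K K').comp (algebraMap A K)) _ hV.1).toAlgebra
      haveI : IsLocalHom (algebraMap A (W.comap φ)) := EtRamTower.isLocalHom_codRestrict _ _ hV
      obtain ⟨hw, hs⟩ := h _ hV
      haveI := isDVR_of_dominates (A := A) (K := K) (W.comap φ) hV
      have he1 := ramificationIdx'_eq (A := A) (B := W.comap φ) (n := 1) (by rw [pow_one]; exact hw)
      obtain ⟨⟨n, hn, hmap, -⟩, hsep⟩ := key W hW hV hs (by rw [he1]; simp)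
      rw [he1, Nat.dvd_one] at hn
      rw [hn, pow_one] at hmap
      exact ⟨hmap, hsep⟩
  intro W hW hV
  intro _ _ hs hne
  haveI := isDVR_of_dominates (A := A) (K := K) (W.comap φ) hV
  haveI := isDVR_of_dominates (A := B) (K := L) W hW
  letI : Algebra A (W.comap φ) := (RingHom.codRestrict ((algebraMap K K').comp (algebraMap A K)) _ hV.1).toAlgebra
  letI : Algebra B W := (RingHom.codRestrict ((algebraMap L F).comp (algebraMap B L)) _ hW.1).toAlgebra
  haveI := hs
  haveI : IsFractionRing (W.comap φ) K' := inferInstance
  obtain ⟨π, hπ⟩ := IsDiscreteValuationRing.exists_irreducible A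
  obtain ⟨ϖ, hϖ⟩ := IsDiscreteValuationRing.exists_irreducible (W.comap φ)
  obtain ⟨u, hu, -, -⟩ := exists_pow_eq (A := A) (K := K) (W.comap φ) (fun a => rfl) π hπ ϖ hϖ
  obtain ⟨⟨n, hn, hmap⟩, hsep⟩ := tame_step (A := A) (algebraMap L F) φ hgen W (algebraMap B W)
    (EtRam.inclOfComap W φ) (fun b => rfl) (fun v => rfl)
    (RingHom.ext fun a => Subtype.ext (by
      show algebraMap L F (algebraMap B L (algebraMap A B a)) = φ (algebraMap K K' (algebraMap A K a))
      rw [← hAB]; exact (RingHom.congr_fun hc _).symm))
    ϖ ((IsDiscreteValuationRing.irreducible_iff_uniformizer ϖ).1 hϖ) _ hne π u hu hπ.not_isUnit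
    (fun h => hπ.ne_zero (hinj (h.trans (map_zero _).symm)))
  refine ⟨⟨n, hn, hmap, ramificationIdx'_eq hmap⟩, ?_⟩
  convert hsep using 2
  exact Algebra.algebra_ext _ _ fun z => by obtain ⟨z, rfl⟩ := residue_surjective z; rfl

end Groth.Agent.TameAbh
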