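import Mathlib
import Groth.Prelude.Def_EtRam
import Groth.Agent.TameAbh.Compositum
import Groth.Agent.S1989
import Groth.Agent.S1990

/-! Composita and normal closures of tame and unramified extensions. -/

set_option autoImplicit false
set_option linter.all false
universe u
open IsLocalRing

noncomputable section

namespace Groth.Agent.TameAbh

variable (A : Type u) [CommRing A] [IsDomain A] [IsDiscreteValuationRing A] (K : Type u) [Field K] [Algebra A K]
  [IsFractionRing A K]

/-- Tame ramification, for a field over `K`. -/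
def Tame (E : Type u) [Field E] [Algebra K E] : Prop :=
  EtRam.IsTamelyRamified A ((algebraMap K E).comp (algebraMap A K))

/-- Unramifiedness, for a field over `K`. -/
def Unram (E : Type u) [Field E] [Algebra K E] : Prop :=
  EtRam.IsUnramifiedExt A ((algebraMap K E).comp (algebraMap A K))

theorem of_algHom {E E' : Type u} [Field E] [Field E'] [Algebra K E] [Algebra K E'] [FiniteDimensional K E']
    [Algebra.IsSeparable K E'] (f : E →ₐ[K] E') : (Tame A K E' → Tame A K E) ∧ (Unram A K E' → Unram A K E) := by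
  letI : Algebra E E' := f.toRingHom.toAlgebra
  haveI : IsScalarTower K E E' := IsScalarTower.of_algebraMap_eq fun x => (f.commutes x).symm
  exact Groth.Agent.S1989.result A K E E'

theorem sup_props {Ω : Type u} [Field Ω] [Algebra K Ω] (E₁ E₂ : IntermediateField K Ω) [FiniteDimensional K E₁]
    [FiniteDimensional K E₂] [Algebra.IsSeparable K E₁] [Algebra.IsSeparable K E₂] :
    (Tame A K E₁ → Tame A K E₂ → Tame A K ↥(E₁ ⊔ E₂)) ∧ (Unram A K E₁ → Unram A K E₂ → Unram A K ↥(E₁ ⊔ E₂)) := by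
  haveI : FiniteDimensional K ↥(E₁ ⊔ E₂) := IntermediateField.finiteDimensional_sup E₁ E₂
  haveI : Algebra.IsSeparable K ↥(E₁ ⊔ E₂) := IntermediateField.isSeparable_sup K Ω E₁ E₂
  let i₁ := IntermediateField.inclusion (le_sup_left : E₁ ≤ E₁ ⊔ E₂)
  letI : Algebra E₂ ↥(E₁ ⊔ E₂) := (IntermediateField.inclusion (le_sup_right : E₂ ≤ E₁ ⊔ E₂)).toRingHom.toAlgebra
  haveI : IsScalarTower K E₂ ↥(E₁ ⊔ E₂) :=
    IsScalarTower.of_algebraMap_eq fun x => ((IntermediateField.inclusion (le_sup_right : E₂ ≤ E₁ ⊔ E₂)).commutes x).symm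
  haveI : FiniteDimensional E₂ ↥(E₁ ⊔ E₂) := Module.Finite.right K E₂ _
  have hc : i₁.toRingHom.comp (algebraMap K E₁) = (algebraMap E₂ ↥(E₁ ⊔ E₂)).comp (algebraMap K E₂) := by
    rw [← IsScalarTower.algebraMap_eq]; exact i₁.comp_algebraMap
  have hgen : Subfield.closure (Set.range (algebraMap E₂ ↥(E₁ ⊔ E₂)) ∪ Set.range i₁.toRingHom) = ⊤ := by
    rw [eq_top_iff]
    rintro ⟨z, hz⟩ -
    set S := Subfield.closure (Set.range (algebraMap E₂ ↥(E₁ ⊔ E₂)) ∪ Set.range i₁.toRingHom)
    have hz' : z ∈ IntermediateField.adjoin K ((E₁ : Set Ω) ∪ (E₂ : Set Ω)) := hz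
    have key : ∀ (w : Ω) (hw : w ∈ IntermediateField.adjoin K ((E₁ : Set Ω) ∪ (E₂ : Set Ω))),
        (⟨w, hw⟩ : ↥(E₁ ⊔ E₂)) ∈ S := by
      intro w hw
      induction hw using IntermediateField.adjoin_induction with
      | mem v hv =>
        rcases hv with hv | hv
        · exact Subfield.subset_closure (Or.inr ⟨⟨v, hv⟩, rfl⟩)
        · exact Subfield.subset_closure (Or.inl ⟨⟨v, hv⟩, rfl⟩)
      | algebraMap v => exact Subfield.subset_closure (Or.inl ⟨algebraMap K E₂ v, rfl⟩)
      | add v w hv hw h h' => exact add_mem h h'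
      | inv v hv h => exact inv_mem h
      | mul v w hv hw h h' => exact mul_mem h h'
    exact key z hz'
  have step : ∀ (V : ValuationSubring E₂), EtRam.Dominates A ((algebraMap K E₂).comp (algebraMap A K)) V →
      (Tame A K E₁ → EtRam.IsTamelyRamified V ((algebraMap E₂ ↥(E₁ ⊔ E₂)).comp V.subtype)) ∧
      (Unram A K E₁ → EtRam.IsUnramifiedExt V ((algebraMap E₂ ↥(E₁ ⊔ E₂)).comp V.subtype)) := by
    intro V hV
    letI : Algebra A V := (RingHom.codRestrict ((algebraMap K E₂).comp (algebraMap A K)) V hV.1).toAlgebra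
    haveI : IsLocalHom (algebraMap A V) := EtRamTower.isLocalHom_codRestrict _ _ hV
    haveI : IsDiscreteValuationRing V := isDVR_of_dominates (A := A) (K := K) V hV
    exact tame_unramified_compositum (K := K) (L := E₂) (algebraMap_injective_of (A := A) (K := K) V fun a => rfl)
      (fun a => rfl) i₁.toRingHom hc hgen
  obtain ⟨ht, hu⟩ := Groth.Agent.S1990.result A K E₂ ↥(E₁ ⊔ E₂)
  exact ⟨fun h₁ h₂ => ht h₂ fun V hV => (step V hV).1 h₁, fun h₁ h₂ => hu h₂ fun V hV => (step V hV).2 h₁⟩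

theorem sup_finset {Ω : Type u} [Field Ω] [Algebra K Ω] (L : Type u) [Field L] [Algebra K L]
    [FiniteDimensional K L] [Algebra.IsSeparable K L] (f₀ : L →ₐ[K] Ω) (s : Finset (L →ₐ[K] Ω)) :
    ∃ (_ : FiniteDimensional K ↥(f₀.fieldRange ⊔ s.sup AlgHom.fieldRange))
      (_ : Algebra.IsSeparable K ↥(f₀.fieldRange ⊔ s.sup AlgHom.fieldRange)),
      (Tame A K L → Tame A K ↥(f₀.fieldRange ⊔ s.sup AlgHom.fieldRange)) ∧
      (Unram A K L → Unram A K ↥(f₀.fieldRange ⊔ s.sup AlgHom.fieldRange)) := by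
  classical
  have hrange : ∀ f : L →ₐ[K] Ω, ∃ (_ : FiniteDimensional K f.fieldRange) (_ : Algebra.IsSeparable K f.fieldRange),
      (Tame A K L → Tame A K f.fieldRange) ∧ (Unram A K L → Unram A K f.fieldRange) := fun f => by
    let e : L ≃ₐ[K] f.fieldRange := AlgEquiv.ofInjectiveField f
    exact ⟨Module.Finite.equiv e.toLinearEquiv, AlgEquiv.Algebra.isSeparable e, of_algHom A K e.symm.toAlgHom⟩
  induction s using Finset.induction_on with
  | empty =>
    rw [Finset.sup_empty, sup_bot_eq]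
    exact hrange f₀
  | insert f s hf ih =>
    obtain ⟨h1, h2, h3, h4⟩ := ih
    obtain ⟨g1, g2, g3, g4⟩ := hrange f
    haveI := h1; haveI := h2; haveI := g1; haveI := g2
    rw [Finset.sup_insert, sup_left_comm]
    obtain ⟨ht, hu⟩ := sup_props A K f.fieldRange (f₀.fieldRange ⊔ s.sup AlgHom.fieldRange)
    exact ⟨IntermediateField.finiteDimensional_sup _ _, IntermediateField.isSeparable_sup K Ω _ _,
      fun h => ht (g3 h) (h3 h), fun h => hu (g4 h) (h4 h)⟩

theorem exists_galois (L : Type u) [Field L] [Algebra K L] [FiniteDimensional K L] [Algebra.IsSeparable K L] :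
    ∃ (M : Type u) (_ : Field M) (_ : Algebra K M) (_ : FiniteDimensional K M) (_ : IsGalois K M) (_ : L →ₐ[K] M),
      (Tame A K L → Tame A K M) ∧ (Unram A K L → Unram A K M) := by
  classical
  let Ω := AlgebraicClosure L
  let f₀ : L →ₐ[K] Ω := IsScalarTower.toAlgHom K L Ω
  obtain ⟨h1, h2, h3, h4⟩ := sup_finset A K L f₀ (Finset.univ : Finset (L →ₐ[K] Ω))
  set M := f₀.fieldRange ⊔ (Finset.univ : Finset (L →ₐ[K] Ω)).sup AlgHom.fieldRange with hM
  have heq : IntermediateField.normalClosure K L Ω = M := by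
    rw [normalClosure_def, hM, Finset.sup_univ_eq_iSup]
    exact (sup_eq_right.2 (le_iSup (fun f : L →ₐ[K] Ω => f.fieldRange) f₀)).symm
  haveI := h2
  haveI : Normal K M := heq ▸ (inferInstance : Normal K (IntermediateField.normalClosure K L Ω))
  exact ⟨M, inferInstance, inferInstance, h1, ⟨⟩,
    (IntermediateField.inclusion (le_sup_left : f₀.fieldRange ≤ M)).comp (AlgEquiv.ofInjectiveField f₀).toAlgHom, h3, h4⟩

theorem exists_compositum (L₁ L₂ : Type u) [Field L₁] [Field L₂] [Algebra K L₁] [Algebra K L₂]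
    [FiniteDimensional K L₁] [FiniteDimensional K L₂] [Algebra.IsSeparable K L₁] [Algebra.IsSeparable K L₂] :
    ∃ (M : Type u) (_ : Field M) (_ : Algebra K M) (_ : FiniteDimensional K M) (_ : Algebra.IsSeparable K M)
      (_ : L₁ →ₐ[K] M) (_ : L₂ →ₐ[K] M),
      (Tame A K L₁ → Tame A K L₂ → Tame A K M) ∧ (Unram A K L₁ → Unram A K L₂ → Unram A K M) := by
  let Ω := AlgebraicClosure L₁
  let f₁ : L₁ →ₐ[K] Ω := IsScalarTower.toAlgHom K L₁ Ω
  let f₂ : L₂ →ₐ[K] Ω := IsAlgClosed.lift
  let e₁ : L₁ ≃ₐ[K] f₁.fieldRange := AlgEquiv.ofInjectiveField f₁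
  let e₂ : L₂ ≃ₐ[K] f₂.fieldRange := AlgEquiv.ofInjectiveField f₂
  haveI : FiniteDimensional K f₁.fieldRange := Module.Finite.equiv e₁.toLinearEquiv
  haveI : FiniteDimensional K f₂.fieldRange := Module.Finite.equiv e₂.toLinearEquiv
  haveI : Algebra.IsSeparable K f₁.fieldRange := AlgEquiv.Algebra.isSeparable e₁
  haveI : Algebra.IsSeparable K f₂.fieldRange := AlgEquiv.Algebra.isSeparable e₂
  obtain ⟨ht, hu⟩ := sup_props A K f₁.fieldRange f₂.fieldRange
  exact ⟨↥(f₁.fieldRange ⊔ f₂.fieldRange), inferInstance, inferInstance, IntermediateField.finiteDimensional_sup _ _,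
    IntermediateField.isSeparable_sup K Ω _ _, (IntermediateField.inclusion le_sup_left).comp e₁.toAlgHom,
    (IntermediateField.inclusion le_sup_right).comp e₂.toAlgHom,
    fun a b => ht ((of_algHom A K e₁.symm.toAlgHom).1 a) ((of_algHom A K e₂.symm.toAlgHom).1 b),
    fun a b => hu ((of_algHom A K e₁.symm.toAlgHom).2 a) ((of_algHom A K e₂.symm.toAlgHom).2 b)⟩

end Groth.Agent.TameAbh
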