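import Mathlib
import Groth.Prelude.Def_EtRam
import Groth.Agent.TameAbh.Compositum

/-! Tame ramification and unramifiedness after adjoining a root of a uniformizer. -/

set_option autoImplicit false
set_option linter.all false
universe u
open IsLocalRing Polynomial
open scoped TensorProduct

noncomputable section

namespace Groth.Agent.TameAbh

theorem isUnit_natCast_of_residue {A : Type u} [CommRing A] [IsLocalRing A] (e : ℕ)
    (he : (e : ResidueField A) ≠ 0) : IsUnit (e : A) := by
  refine notMem_maximalIdeal.1 fun h => he ?_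
  rw [← map_natCast (residue A) e, (residue_eq_zero_iff _).2 h]

theorem natCast_ne_zero_of_tame {A : Type u} [CommRing A] [IsLocalRing A] (e : ℕ) (he0 : e ≠ 0)
    (h : ∀ p : ℕ, p.Prime → CharP (ResidueField A) p → ¬ p ∣ e) : (e : ResidueField A) ≠ 0 := by
  obtain ⟨p, hp⟩ := CharP.exists (ResidueField A)
  rcases CharP.char_is_prime_or_zero (ResidueField A) p with hpp | hp0
  · exact fun h0 => h p hpp hp ((CharP.cast_eq_zero_iff _ p _).1 h0)
  · subst hp0
    haveI := CharP.charP_to_charZero (ResidueField A)
    exact Nat.cast_ne_zero.2 he0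

variable {A K L : Type u} [CommRing A] [IsDomain A] [IsDiscreteValuationRing A] [Field K] [Algebra A K]
  [IsFractionRing A K] [Field L] [Algebra K L] [Algebra A L] [IsScalarTower A K L] [FiniteDimensional K L]

include K in
/-- The ramification indices of a tame extension divide a fixed integer invertible in the residue field. -/
theorem exists_uniform_index (h : EtRam.IsTamelyRamified A (algebraMap A L)) :
    ∃ e₀ : ℕ, 0 < e₀ ∧ (e₀ : ResidueField A) ≠ 0 ∧
      ∀ (V : ValuationSubring L) (hV : EtRam.Dominates A (algebraMap A L) V),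
        letI : Algebra A V := (RingHom.codRestrict (algebraMap A L) V hV.1).toAlgebra
        Ideal.ramificationIdx' (maximalIdeal A) (maximalIdeal V) ∣ e₀ := by
  classical
  let S := (Finset.range (Module.finrank K L + 1)).filter (fun k : ℕ => (k : ResidueField A) ≠ 0)
  refine ⟨∏ k ∈ S, k, Nat.pos_of_ne_zero (Finset.prod_ne_zero_iff.2 fun k hk h0 => ?_), ?_, fun V hV => ?_⟩
  · exact (Finset.mem_filter.1 hk).2 (by rw [h0, Nat.cast_zero])
  · rw [Nat.cast_prod]; exact Finset.prod_ne_zero_iff.2 fun k hk => (Finset.mem_filter.1 hk).2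
  letI : Algebra A V := (RingHom.codRestrict (algebraMap A L) V hV.1).toAlgebra
  haveI : IsLocalHom (algebraMap A V) := EtRamTower.isLocalHom_codRestrict _ _ hV
  haveI : IsDiscreteValuationRing V := isDVR_of_dominates (A := A) (K := K) V
    (by rwa [← IsScalarTower.algebraMap_eq])
  obtain ⟨π, hπ⟩ := IsDiscreteValuationRing.exists_irreducible A
  obtain ⟨ϖ, hϖ⟩ := IsDiscreteValuationRing.exists_irreducible V
  obtain ⟨u, hu, he0, hle⟩ := exists_pow_eq (A := A) (K := K) V
    (fun a => IsScalarTower.algebraMap_apply A K L a) π hπ ϖ hϖ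
  exact Finset.dvd_prod_of_mem _ (Finset.mem_filter.2
    ⟨Finset.mem_range.2 (Nat.lt_succ_of_le hle), natCast_ne_zero_of_tame _ he0 (h V hV).2⟩)

theorem adjoinRoot_residue_separable {B : Type u} [CommRing B] [IsDomain B] [IsDiscreteValuationRing B]
    (b : B) (hb : Irreducible b) (n : ℕ) (hn : n ≠ 0) [IsLocalRing (AdjoinRoot (X ^ n - C b : B[X]))]
    [IsLocalHom (algebraMap B (AdjoinRoot (X ^ n - C b : B[X])))] :
    Algebra.IsSeparable (ResidueField B) (ResidueField (AdjoinRoot (X ^ n - C b : B[X]))) := by
  obtain ⟨_, _, hloc, hY, hmR, hdec, -⟩ := adjoinRoot_dvr B b hb n hn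
  refine ⟨fun z => ?_⟩
  obtain ⟨z, rfl⟩ := residue_surjective z
  obtain ⟨x, hx⟩ := hdec z
  rw [show residue _ z = algebraMap (ResidueField B) (ResidueField (AdjoinRoot (X ^ n - C b : B[X]))) (residue B x) by
    show _ = residue _ (algebraMap B _ x)
    rw [← sub_eq_zero, ← map_sub, residue_eq_zero_iff, hmR]; exact hx]
  exact isSeparable_algebraMap _

omit [FiniteDimensional K L] in
/-- After adjoining an `e`-th root of the uniformizer, with all ramification indices dividing `e`, a tame
extension becomes unramified. -/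
theorem exists_unramified_root [FiniteDimensional K L] [Algebra.IsSeparable K L] (π : A)
    (hπm : maximalIdeal A = Ideal.span {π}) (h : EtRam.IsTamelyRamified A (algebraMap A L)) (e : ℕ) (he0 : e ≠ 0)
    (he : (e : ResidueField A) ≠ 0)
    (hdiv : ∀ (V : ValuationSubring L) (hV : EtRam.Dominates A (algebraMap A L) V),
        letI : Algebra A V := (RingHom.codRestrict (algebraMap A L) V hV.1).toAlgebra
        Ideal.ramificationIdx' (maximalIdeal A) (maximalIdeal V) ∣ e) :
    ∃ (L' : Type u) (_ : Field L') (_ : Algebra K L') (_ : Algebra (AdjoinRoot (X ^ e - C π : A[X])) L')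
      (_ : L →ₐ[K] L'), FiniteDimensional K L' ∧ Algebra.IsSeparable K L' ∧
      (algebraMap (AdjoinRoot (X ^ e - C π : A[X])) L').comp (AdjoinRoot.of (X ^ e - C π)) =
        (algebraMap K L').comp (algebraMap A K) ∧
      ∀ [IsLocalRing (AdjoinRoot (X ^ e - C π : A[X]))],
        EtRam.IsUnramifiedExt (AdjoinRoot (X ^ e - C π : A[X]))
          (algebraMap (AdjoinRoot (X ^ e - C π : A[X])) L') := by
  classical
  have hπ : Irreducible π := (IsDiscreteValuationRing.irreducible_iff_uniformizer π).2 hπm
  obtain ⟨hdom, hdvr, hloc, hY, hmR, hdec, hinjR⟩ := adjoinRoot_dvr A π hπ e he0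
  set R := AdjoinRoot (X ^ e - C π : A[X])
  set Y : R := AdjoinRoot.root (X ^ e - C π : A[X]) with hYdef
  have hinjAL : Function.Injective (algebraMap A L) := by
    rw [IsScalarTower.algebraMap_eq A K L]; exact (algebraMap K L).injective.comp (IsFractionRing.injective A K)
  let Ω := AlgebraicClosure L
  obtain ⟨ρ, hρ⟩ := IsAlgClosed.exists_pow_nat_eq (algebraMap L Ω (algebraMap A L π)) (Nat.pos_of_ne_zero he0)
  let L' := IntermediateField.adjoin L ({ρ} : Set Ω)
  haveI : FiniteDimensional L L' := IntermediateField.adjoin.finiteDimensional (Algebra.IsIntegral.isIntegral ρ)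
  haveI : IsScalarTower K L L' := IsScalarTower.of_algebraMap_eq fun x =>
    Subtype.ext (IsScalarTower.algebraMap_apply K L Ω x)
  haveI : FiniteDimensional K L' := Module.Finite.trans L L'
  let ρ' : L' := ⟨ρ, IntermediateField.mem_adjoin_simple_self L ρ⟩
  have hρ' : ρ' ^ e = algebraMap L L' (algebraMap A L π) := Subtype.ext hρ
  haveI : Algebra.IsSeparable L L' := by
    rw [IntermediateField.isSeparable_adjoin_simple_iff_isSeparable]
    have heL : (e : L) ≠ 0 := by
      rw [← map_natCast (algebraMap A L) e]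
      exact fun h0 => (isUnit_natCast_of_residue e he).ne_zero (hinjAL (h0.trans (map_zero _).symm))
    refine (separable_X_pow_sub_C (algebraMap A L π) heL
      (fun h0 => hπ.ne_zero (hinjAL (h0.trans (map_zero _).symm)))).of_dvd (minpoly.dvd _ _ ?_)
    rw [map_sub, map_pow, aeval_X, aeval_C, hρ, sub_self]
  haveI : Algebra.IsSeparable K L' := Algebra.IsSeparable.trans K L L'
  let iR : R →+* L' := AdjoinRoot.lift ((algebraMap L L').comp (algebraMap A L)) ρ' (by
    rw [eval₂_sub, eval₂_X_pow, eval₂_C, hρ']; exact sub_self _)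
  letI : Algebra R L' := iR.toAlgebra
  have hof : ∀ a, algebraMap R L' (algebraMap A R a) = algebraMap L L' (algebraMap A L a) := fun a =>
    AdjoinRoot.lift_of _
  have hroot : algebraMap R L' Y = ρ' := AdjoinRoot.lift_root _
  refine ⟨L', inferInstance, inferInstance, iR.toAlgebra, IsScalarTower.toAlgHom K L L', inferInstance,
    inferInstance, RingHom.ext fun a => (hof a).trans ?_, ?_⟩
  · rw [IsScalarTower.algebraMap_apply A K L, ← IsScalarTower.algebraMap_apply K L L']; rfl
  intro _ W hW
  intro hlW
  haveI : Algebra.IsIntegral A R :=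
    haveI : Module.Finite A R := (monic_X_pow_sub_C π he0).finite_adjoinRoot
    Algebra.IsIntegral.of_finite A R
  have hiRinj : Function.Injective (algebraMap R L') := by
    refine RingHom.injective_iff_ker_eq_bot _ |>.2 (Ideal.eq_bot_of_comap_eq_bot (R := A) (eq_bot_iff.2 fun x hx => ?_))
    rw [Ideal.mem_comap, RingHom.mem_ker, hof, map_eq_zero] at hx
    exact hinjAL (hx.trans (map_zero _).symm)
  letI : Algebra R W := (RingHom.codRestrict (algebraMap R L') W hW.1).toAlgebra
  haveI : IsLocalHom (algebraMap R W) := EtRamTower.isLocalHom_codRestrict _ _ hW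
  have hVdom : EtRam.Dominates A (algebraMap A L) (W.comap (algebraMap L L')) := by
    refine (EtRamTower.dominates_comap_iff (algebraMap L L') _ W).2 ?_
    refine ⟨fun a => ?_, fun a ha => ?_⟩
    · show algebraMap L L' (algebraMap A L a) ∈ W
      exact hof a ▸ hW.1 _
    · show W.valuation (algebraMap L L' (algebraMap A L a)) < 1
      rw [← hof a]; exact hW.2 _ (map_nonunit (algebraMap A R) a ha)
  letI : Algebra A (W.comap (algebraMap L L')) :=
    (RingHom.codRestrict (algebraMap A L) (W.comap (algebraMap L L')) hVdom.1).toAlgebra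
  haveI : IsLocalHom (algebraMap A (W.comap (algebraMap L L'))) := EtRamTower.isLocalHom_codRestrict _ _ hVdom
  haveI : IsDiscreteValuationRing (W.comap (algebraMap L L')) := isDVR_of_dominates (A := A) (K := K) _
    (by rwa [← IsScalarTower.algebraMap_eq])
  haveI : IsDiscreteValuationRing W := isDVR_of_dominates (A := A) (K := K) W
    ⟨fun a => by
      show algebraMap K L' (algebraMap A K a) ∈ W
      rw [IsScalarTower.algebraMap_apply K L L', ← IsScalarTower.algebraMap_apply A K L, ← hof]
      exact hW.1 _,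
    fun a ha => by
      show W.valuation (algebraMap K L' (algebraMap A K a)) < 1
      rw [IsScalarTower.algebraMap_apply K L L', ← IsScalarTower.algebraMap_apply A K L, ← hof]
      exact hW.2 _ (map_nonunit (algebraMap A R) a ha)⟩
  haveI : Algebra.IsSeparable (ResidueField A) (ResidueField (W.comap (algebraMap L L'))) := (h _ hVdom).1
  obtain ⟨ϖ, hϖ⟩ := IsDiscreteValuationRing.exists_irreducible (W.comap (algebraMap L L'))
  obtain ⟨u, hu, hev, -⟩ := exists_pow_eq (A := A) (K := K) (W.comap (algebraMap L L'))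
    (fun a => IsScalarTower.algebraMap_apply A K L a) π hπ ϖ hϖ
  obtain ⟨d, hd⟩ := hdiv _ hVdom
  let φ : FractionRing R →+* L' := IsFractionRing.lift hiRinj
  have hφ : ∀ x, φ (algebraMap R _ x) = algebraMap R L' x := fun x => IsFractionRing.lift_algebraMap hiRinj x
  have hgen : Subfield.closure (Set.range (algebraMap L L') ∪ Set.range φ) = ⊤ := by
    rw [eq_top_iff]
    rintro ⟨x, hx⟩ -
    induction hx using IntermediateField.adjoin_induction with
    | mem z hz =>
      rw [show (⟨z, _⟩ : L') = ρ' from Subtype.ext (Set.mem_singleton_iff.1 hz)]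
      exact Subfield.subset_closure (Or.inr ⟨algebraMap R _ Y, by rw [hφ, hroot]⟩)
    | algebraMap z => exact Subfield.subset_closure (Or.inl ⟨z, rfl⟩)
    | add z w hz hw h h' => exact add_mem h h'
    | inv z hz h => exact inv_mem h
    | mul z w hz hw h h' => exact mul_mem h h'
  have hd0 : d ≠ 0 := by rintro rfl; rw [mul_zero] at hd; exact he0 hd
  have hcast : ((Ideal.ramificationIdx' (maximalIdeal A) (maximalIdeal (W.comap (algebraMap L L'))) : ℕ) :
      ResidueField A) ≠ 0 := fun h0 => he (by rw [hd, Nat.cast_mul, h0, zero_mul])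
  obtain ⟨hmax, hsep⟩ := sep_step (A := A) (algebraMap L L') φ hgen W
    (EtRam.inclOfComap W (algebraMap L L')) (algebraMap R W) (fun b => rfl) (fun b => (hφ b).symm)
    (RingHom.ext fun a => Subtype.ext (hof a).symm)
    ϖ ((IsDiscreteValuationRing.irreducible_iff_uniformizer ϖ).1 hϖ) Y hmR
    (fun h0 => hπ.ne_zero (hinjAL (by
      rw [map_zero]
      have h1 : algebraMap R L' (algebraMap A R π) = 0 := by
        rw [← hY, map_pow, show algebraMap R L' Y = ((algebraMap R W Y : W) : L') from rfl, h0]
        exact zero_pow he0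
      rw [hof, map_eq_zero] at h1
      exact h1)))
    _ d hcast hd0 π u 1 hu (by rw [Units.val_one, one_mul, ← hd, hY])
  refine ⟨?_, ?_⟩
  · show Ideal.map _ _ = _
    rw [hmR, Ideal.map_span, Set.image_singleton, hmax]
  · convert hsep using 2
    exact Algebra.algebra_ext _ _ fun z => by obtain ⟨z, rfl⟩ := residue_surjective z; rfl

/-- An extension which becomes unramified after adjoining a root of a uniformizer is tame. -/
theorem isTamelyRamified_of_unramified_root (π : A) (hπm : maximalIdeal A = Ideal.span {π}) (e : ℕ)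
    (he0 : e ≠ 0) (he : (e : ResidueField A) ≠ 0) (L' : Type u) [Field L'] [Algebra K L']
    [Algebra (AdjoinRoot (X ^ e - C π : A[X])) L'] (f : L →ₐ[K] L') [FiniteDimensional K L']
    (hc : (algebraMap (AdjoinRoot (X ^ e - C π : A[X])) L').comp (AdjoinRoot.of (X ^ e - C π)) =
      (algebraMap K L').comp (algebraMap A K))
    (hunr : ∀ [IsLocalRing (AdjoinRoot (X ^ e - C π : A[X]))],
        EtRam.IsUnramifiedExt (AdjoinRoot (X ^ e - C π : A[X]))
          (algebraMap (AdjoinRoot (X ^ e - C π : A[X])) L')) :
    EtRam.IsTamelyRamified A (algebraMap A L) := by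
  classical
  have hπ : Irreducible π := (IsDiscreteValuationRing.irreducible_iff_uniformizer π).2 hπm
  obtain ⟨hdom, hdvr, hloc, hY, hmR, hdec, hinjR⟩ := adjoinRoot_dvr A π hπ e he0
  set R := AdjoinRoot (X ^ e - C π : A[X])
  set Y : R := AdjoinRoot.root (X ^ e - C π : A[X]) with hYdef
  have hAK : (algebraMap K L').comp (algebraMap A K) = f.toRingHom.comp (algebraMap A L) := RingHom.ext fun a => by
    show algebraMap K L' (algebraMap A K a) = f (algebraMap A L a)
    rw [IsScalarTower.algebraMap_apply A K L, AlgHom.commutes]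
  intro V hV
  intro hlV
  obtain ⟨W, hWV⟩ := EtRamTower.exists_comap_eq f.toRingHom V
  have hW : EtRam.Dominates A ((algebraMap K L').comp (algebraMap A K)) W := by
    rw [hAK]
    refine (EtRamTower.dominates_comap_iff f.toRingHom _ W).1 ?_
    rw [hWV]; exact hV
  haveI : IsDiscreteValuationRing W := isDVR_of_dominates (A := A) (K := K) W hW
  haveI : IsDiscreteValuationRing V := isDVR_of_dominates (A := A) (K := K) V
    (by rwa [← IsScalarTower.algebraMap_eq])
  haveI : Algebra.IsIntegral A R :=
    haveI : Module.Finite A R := (monic_X_pow_sub_C π he0).finite_adjoinRoot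
    Algebra.IsIntegral.of_finite A R
  have hof : ∀ a, algebraMap R L' (algebraMap A R a) = algebraMap K L' (algebraMap A K a) := RingHom.congr_fun hc
  letI : Algebra A W := (RingHom.codRestrict _ W hW.1).toAlgebra
  have hlAW : IsLocalHom (algebraMap A W) := EtRamTower.isLocalHom_codRestrict _ _ hW
  have hRW : ∀ x, algebraMap R L' x ∈ W := by
    intro x
    obtain ⟨p, hp, hpx⟩ := Algebra.IsIntegral.isIntegral (R := A) x
    have hint : IsIntegral W (algebraMap R L' x) := by
      refine ⟨p.map (algebraMap A W), hp.map _, ?_⟩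
      rw [eval₂_map, show (algebraMap W L').comp (algebraMap A W) = (algebraMap R L').comp (algebraMap A R) from
        RingHom.ext fun a => (hof a).symm, ← hom_eval₂, hpx, map_zero]
    obtain ⟨y, hy⟩ := IsIntegrallyClosed.isIntegral_iff.1 hint
    exact hy ▸ y.2
  have hWR : EtRam.Dominates R (algebraMap R L') W := by
    refine ⟨hRW, fun x hx => ?_⟩
    obtain ⟨c, rfl⟩ := Ideal.mem_span_singleton'.1 (hmR.le hx)
    rw [map_mul, map_mul]
    refine lt_of_le_of_lt (mul_le_of_le_one_left zero_le' (W.valuation_le_one ⟨_, hRW c⟩)) ?_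
    by_contra hge
    rw [not_lt] at hge
    refine lt_irrefl (1 : W.ValueGroup) (lt_of_le_of_lt (one_le_pow_of_one_le' hge e) ?_)
    rw [← map_pow, ← map_pow, hY, hof]
    exact hW.2 π (hπm ▸ Ideal.mem_span_singleton_self π)
  letI : Algebra R W := (RingHom.codRestrict (algebraMap R L') W hWR.1).toAlgebra
  haveI : IsLocalHom (algebraMap R W) := EtRamTower.isLocalHom_codRestrict _ _ hWR
  obtain ⟨hmax, hsep⟩ := hunr W hWR
  haveI : IsScalarTower A R W := IsScalarTower.of_algebraMap_eq fun a => Subtype.ext (hof a).symm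
  have hVW : ∀ v : V, f (v : L) ∈ W := fun v => by
    have := v.2
    rw [← SetLike.mem_coe] at this ⊢
    exact ValuationSubring.mem_comap.1 (show (v : L) ∈ W.comap f.toRingHom by rw [hWV]; exact v.2)
  letI : Algebra A V := (RingHom.codRestrict (algebraMap A L) V hV.1).toAlgebra
  letI : Algebra V W := (RingHom.codRestrict (f.toRingHom.comp V.subtype) W hVW).toAlgebra
  haveI : IsScalarTower A V W := IsScalarTower.of_algebraMap_eq fun a => Subtype.ext (RingHom.congr_fun hAK a)
  have hlVW : IsLocalHom (algebraMap V W) := by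
    refine EtRamTower.isLocalHom_codRestrict (f.toRingHom.comp V.subtype) W ?_
    refine (EtRamTower.dominates_comap_iff f.toRingHom V.subtype W).1 ?_
    rw [hWV]
    exact ⟨fun x => x.2, fun x hx => (V.valuation_lt_one_iff x).1 hx⟩
  haveI := hlVW
  haveI := hlAW
  haveI : IsLocalHom (algebraMap A R) := hloc
  have hπ0 : ∀ {T : Type u} [CommRing T] [Algebra A T], Function.Injective (algebraMap A T) →
      (maximalIdeal A).map (algebraMap A T) ≠ ⊥ := fun hi h0 => hπ.ne_zero (hi (by
    rw [map_zero, ← Ideal.mem_bot, ← h0]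
    exact Ideal.mem_map_of_mem _ (hπm ▸ Ideal.mem_span_singleton_self π)))
  have hAV : (maximalIdeal A).map (algebraMap A V) ≠ ⊥ :=
    hπ0 (algebraMap_injective_of (A := A) (K := K) V fun a => IsScalarTower.algebraMap_apply A K L a)
  have hVW0 : (maximalIdeal V).map (algebraMap V W) ≠ ⊥ := fun h0 => hπ0
    (algebraMap_injective_of (A := A) (K := K) W fun a => rfl) (by
      rw [IsScalarTower.algebraMap_eq A V W, ← Ideal.map_map, eq_bot_iff]
      exact (Ideal.map_mono (Ideal.map_le_iff_le_comap.2 fun x hx => Ideal.mem_comap.2 (map_nonunit (algebraMap A V) x hx) :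
        (maximalIdeal A).map (algebraMap A V) ≤ maximalIdeal V)).trans h0.le)
  have hmul := EtRamTower.ramificationIdx'_mul (A := A) (B := V) (C := W) hAV hVW0
  have hmap : (maximalIdeal A).map (algebraMap A W) = maximalIdeal W ^ e := by
    rw [hπm, Ideal.map_span, Set.image_singleton, IsScalarTower.algebraMap_apply A R W, ← hY, map_pow,
      ← Ideal.span_singleton_pow]
    congr 1
    rw [← hmax, hmR, Ideal.map_span, Set.image_singleton]
  rw [ramificationIdx'_eq hmap] at hmul
  have hsepAR : Algebra.IsSeparable (ResidueField A) (ResidueField R) := adjoinRoot_residue_separable π hπ e he0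
  have hAW : Algebra.IsSeparable (ResidueField A) (ResidueField W) :=
    EtRamTower.isSeparable_residue_iff.2 ⟨hsepAR, hsep⟩
  refine ⟨(EtRamTower.isSeparable_residue_iff (V := V).1 hAW).1, fun p hp hpA hdvd => he ?_⟩
  rw [hmul, Nat.cast_mul, (CharP.cast_eq_zero_iff (ResidueField A) p _).2 hdvd, zero_mul]

end Groth.Agent.TameAbh
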