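import Mathlib
import Groth.Prelude.Def_EtRam
import Groth.Agent.TameAbh.RootCriterion
import Groth.Agent.TameAbh.Closure

/-! Extensions by roots of elements, of order invertible in the residue field, are tame. -/

set_option autoImplicit false
set_option linter.all false
universe u
open IsLocalRing Polynomial
open scoped IntermediateField

noncomputable section

namespace Groth.Agent.TameAbh

/-- A DVR is the only valuation subring of its fraction field dominating it. -/
theorem mem_range_of_dominates {R L : Type u} [CommRing R] [IsDomain R] [IsDiscreteValuationRing R] [Field L]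
    [Algebra R L] [IsFractionRing R L] (W : ValuationSubring L) (hW : EtRam.Dominates R (algebraMap R L) W)
    (x : L) (hx : x ∈ W) : ∃ r : R, algebraMap R L r = x := by
  rcases ValuationRing.isInteger_or_isInteger R x with h | h
  · exact h
  obtain ⟨r, hr⟩ := h
  rcases eq_or_ne x 0 with rfl | hx0
  · exact ⟨0, map_zero _⟩
  by_cases hu : IsUnit r
  · obtain ⟨r', hr'⟩ := hu.exists_right_inv
    refine ⟨r', ?_⟩
    have := congrArg (algebraMap R L) hr'
    rw [map_mul, hr, map_one] at this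
    exact (eq_of_inv_mul_eq_one this).symm
  · exfalso
    have h1 := hW.2 r hu
    rw [hr, map_inv₀] at h1
    have h2 : W.valuation x ≤ 1 := (W.valuation_le_one_iff x).2 hx
    have h3 : (W.valuation x)⁻¹ * W.valuation x = 1 := inv_mul_cancel₀ ((Valuation.ne_zero_iff _).2 hx0)
    exact absurd (h3.symm.le.trans (mul_le_of_le_one_right zero_le' h2)) (not_le.2 h1)

variable (A : Type u) [CommRing A] [IsDomain A] [IsDiscreteValuationRing A] (K : Type u) [Field K] [Algebra A K]
  [IsFractionRing A K] {Ω : Type u} [Field Ω] [Algebra K Ω] [IsAlgClosed Ω]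

theorem simple_root (t : Ω) (n : ℕ) (hn : (n : ResidueField A) ≠ 0) (a : K) (ha : a ≠ 0)
    (ht : t ^ n = algebraMap K Ω a) : FiniteDimensional K K⟮t⟯ ∧ Algebra.IsSeparable K K⟮t⟯ := by
  have hn0 : n ≠ 0 := by rintro rfl; simp at hn
  have hnK : (n : K) ≠ 0 := by
    rw [← map_natCast (algebraMap A K) n]
    exact fun h => (isUnit_natCast_of_residue n hn).ne_zero (IsFractionRing.injective A K (h.trans (map_zero _).symm))
  have hi : IsIntegral K t := by
    refine ⟨X ^ n - C a, monic_X_pow_sub_C a hn0, ?_⟩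
    rw [eval₂_sub, eval₂_X_pow, eval₂_C, ht, sub_self]
  refine ⟨IntermediateField.adjoin.finiteDimensional hi, ?_⟩
  rw [IntermediateField.isSeparable_adjoin_simple_iff_isSeparable]
  refine (separable_X_pow_sub_C a hnK ha).of_dvd (minpoly.dvd _ _ ?_)
  rw [map_sub, map_pow, aeval_X, aeval_C, ht, sub_self]

/-- A root of a uniformizer generates a tame extension. -/
theorem tame_root_uniformizer (ρ : Ω) (n : ℕ) (hn : (n : ResidueField A) ≠ 0) (b : A) (hb : Irreducible b)
    (hρ : ρ ^ n = algebraMap K Ω (algebraMap A K b)) : Tame A K K⟮ρ⟯ := by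
  have hn0 : n ≠ 0 := by rintro rfl; simp at hn
  obtain ⟨hfin, hsep⟩ := simple_root A K ρ n hn _
    (fun h => hb.ne_zero (IsFractionRing.injective A K (h.trans (map_zero _).symm))) hρ
  haveI := hfin
  haveI := hsep
  obtain ⟨hdom, hdvr, hloc, hY, hmR, hdec, hinjR⟩ := adjoinRoot_dvr A b hb n hn0
  set R := AdjoinRoot (X ^ n - C b : A[X])
  set Y : R := AdjoinRoot.root (X ^ n - C b : A[X])
  letI : Algebra A K⟮ρ⟯ := ((algebraMap K K⟮ρ⟯).comp (algebraMap A K)).toAlgebra
  haveI : IsScalarTower A K K⟮ρ⟯ := IsScalarTower.of_algebraMap_eq fun _ => rfl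
  let ρ' : K⟮ρ⟯ := ⟨ρ, IntermediateField.mem_adjoin_simple_self K ρ⟩
  let iR : R →+* K⟮ρ⟯ := AdjoinRoot.lift (algebraMap A K⟮ρ⟯) ρ' (by
    rw [eval₂_sub, eval₂_X_pow, eval₂_C, sub_eq_zero]; exact Subtype.ext hρ)
  letI : Algebra R K⟮ρ⟯ := iR.toAlgebra
  have hof : ∀ a, algebraMap R K⟮ρ⟯ (algebraMap A R a) = algebraMap A K⟮ρ⟯ a := fun a => AdjoinRoot.lift_of _
  haveI : Algebra.IsIntegral A R :=
    haveI : Module.Finite A R := (monic_X_pow_sub_C b hn0).finite_adjoinRoot
    Algebra.IsIntegral.of_finite A R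
  have hinj : Function.Injective (algebraMap R K⟮ρ⟯) := by
    refine RingHom.injective_iff_ker_eq_bot _ |>.2 (Ideal.eq_bot_of_comap_eq_bot (R := A) (eq_bot_iff.2 fun x hx => ?_))
    rw [Ideal.mem_comap, RingHom.mem_ker, hof] at hx
    exact IsFractionRing.injective A K ((algebraMap K K⟮ρ⟯).injective (hx.trans (by rw [map_zero, map_zero])))
  haveI : FaithfulSMul R K⟮ρ⟯ := (faithfulSMul_iff_algebraMap_injective R K⟮ρ⟯).2 hinj
  haveI : IsFractionRing R K⟮ρ⟯ := DvrDom.isFractionRing_of_closure (by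
    rw [eq_top_iff]
    rintro ⟨x, hx⟩ -
    induction hx using IntermediateField.adjoin_induction with
    | mem z hz =>
      rw [show (⟨z, _⟩ : K⟮ρ⟯) = ρ' from Subtype.ext (Set.mem_singleton_iff.1 hz)]
      exact Subfield.subset_closure ⟨Y, AdjoinRoot.lift_root _⟩
    | algebraMap z =>
      obtain ⟨p, q, -, rfl⟩ := IsFractionRing.div_surjective (A := A) z
      rw [show (⟨algebraMap K Ω (algebraMap A K p / algebraMap A K q), _⟩ : K⟮ρ⟯) =
        algebraMap A K⟮ρ⟯ p / algebraMap A K⟮ρ⟯ q from Subtype.ext (map_div₀ _ _ _)]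
      exact div_mem (Subfield.subset_closure ⟨_, hof p⟩) (Subfield.subset_closure ⟨_, hof q⟩)
    | add z w hz hw h h' => exact add_mem h h'
    | inv z hz h => exact inv_mem h
    | mul z w hz hw h h' => exact mul_mem h h')
  refine isTamelyRamified_of_unramified_root (K := K) (L := K⟮ρ⟯) b
    ((IsDiscreteValuationRing.irreducible_iff_uniformizer b).1 hb) n hn0 hn K⟮ρ⟯ (AlgHom.id K _)
    (RingHom.ext hof) ?_
  intro _ W hW
  intro _
  letI : Algebra R W := (RingHom.codRestrict (algebraMap R K⟮ρ⟯) W hW.1).toAlgebra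
  have hsurj : Function.Surjective (algebraMap R W) := fun w => by
    obtain ⟨r, hr⟩ := mem_range_of_dominates W hW (w : K⟮ρ⟯) w.2
    exact ⟨r, Subtype.ext hr⟩
  haveI : IsLocalHom (algebraMap R W) := EtRamTower.isLocalHom_codRestrict _ _ hW
  refine ⟨?_, ⟨fun z => ?_⟩⟩
  · refine le_antisymm (Ideal.map_le_iff_le_comap.2 fun x hx => Ideal.mem_comap.2 (map_nonunit (algebraMap R W) x hx))
      fun w hw => ?_
    obtain ⟨r, rfl⟩ := hsurj w
    exact Ideal.mem_map_of_mem _ fun hu => hw (hu.map _)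
  · obtain ⟨z, rfl⟩ := residue_surjective z
    obtain ⟨r, rfl⟩ := hsurj z
    rw [show residue W (algebraMap R W r) = algebraMap (ResidueField R) (ResidueField W) (residue R r) from rfl]
    exact isSeparable_algebraMap _

set_option maxHeartbeats 800000 in
/-- A root of an arbitrary nonzero element generates a tame extension. -/
theorem tame_root (t : Ω) (n : ℕ) (hn : (n : ResidueField A) ≠ 0) (a : K) (ha : a ≠ 0)
    (ht : t ^ n = algebraMap K Ω a) : Tame A K K⟮t⟯ := by
  have hn0 : n ≠ 0 := by rintro rfl; simp at hn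
  obtain ⟨π, hπ⟩ := IsDiscreteValuationRing.exists_irreducible A
  obtain ⟨x, y, hy, rfl⟩ := IsFractionRing.div_surjective (A := A) a
  have hx0 : x ≠ 0 := fun h => ha (by rw [h, map_zero, zero_div])
  obtain ⟨i, u, rfl⟩ := IsDiscreteValuationRing.eq_unit_mul_pow_irreducible hx0 hπ
  obtain ⟨j, v, rfl⟩ := IsDiscreteValuationRing.eq_unit_mul_pow_irreducible (nonZeroDivisors.ne_zero hy) hπ
  let b : A := (u : A) * ((v⁻¹ : Aˣ) : A) * π
  have hb : Irreducible b := (irreducible_isUnit_mul (u.isUnit.mul (v⁻¹).isUnit)).2 hπ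
  obtain ⟨ρ, hρ⟩ := IsAlgClosed.exists_pow_nat_eq (algebraMap K Ω (algebraMap A K π)) (Nat.pos_of_ne_zero hn0)
  let g := (algebraMap K Ω).comp (algebraMap A K)
  have hg : Function.Injective g := (algebraMap K Ω).injective.comp (IsFractionRing.injective A K)
  have hρ0 : ρ ≠ 0 := fun h => hπ.ne_zero (hg (by rw [map_zero]; show algebraMap K Ω _ = 0; rw [← hρ, h, zero_pow hn0]))
  let ρ' : Ω := t * ρ ^ j / ρ ^ i * ρ
  have hρ' : ρ' ^ n = algebraMap K Ω (algebraMap A K b) := by
    have hv : g (v : A) ≠ 0 := fun h => v.isUnit.ne_zero (hg (h.trans (map_zero g).symm))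
    have hπ0 : g π ≠ 0 := fun h => hπ.ne_zero (hg (h.trans (map_zero g).symm))
    have hinv : g ((v⁻¹ : Aˣ) : A) = (g v)⁻¹ := eq_inv_of_mul_eq_one_right (by rw [← map_mul, v.mul_inv, map_one])
    show (t * ρ ^ j / ρ ^ i * ρ) ^ n = g b
    rw [mul_pow, div_pow, mul_pow, ht, ← pow_mul, ← pow_mul, mul_comm j n, mul_comm i n, pow_mul, pow_mul,
      show ρ ^ n = g π from hρ, map_div₀]
    show g ((u : A) * π ^ i) / g ((v : A) * π ^ j) * g π ^ j / g π ^ i * g π = g b
    simp only [b, map_mul, map_pow, hinv]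
    field_simp
  obtain ⟨h1, h2⟩ := simple_root A K ρ n hn _
    (fun h => hπ.ne_zero (IsFractionRing.injective A K (h.trans (map_zero _).symm))) hρ
  obtain ⟨h3, h4⟩ := simple_root A K ρ' n hn _
    (fun h => hb.ne_zero (IsFractionRing.injective A K (h.trans (map_zero _).symm))) hρ'
  haveI := h1; haveI := h2; haveI := h3; haveI := h4
  have hsup := (sup_props A K K⟮ρ⟯ K⟮ρ'⟯).1 (tame_root_uniformizer A K ρ n hn π hπ hρ)
    (tame_root_uniformizer A K ρ' n hn b hb hρ')
  haveI : FiniteDimensional K ↥(K⟮ρ⟯ ⊔ K⟮ρ'⟯) := IntermediateField.finiteDimensional_sup _ _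
  haveI : Algebra.IsSeparable K ↥(K⟮ρ⟯ ⊔ K⟮ρ'⟯) := IntermediateField.isSeparable_sup K Ω _ _
  have hle : K⟮t⟯ ≤ K⟮ρ⟯ ⊔ K⟮ρ'⟯ := by
    rw [IntermediateField.adjoin_simple_le_iff]
    have m1 : ρ ∈ K⟮ρ⟯ ⊔ K⟮ρ'⟯ := (le_sup_left : K⟮ρ⟯ ≤ _) (IntermediateField.mem_adjoin_simple_self K ρ)
    have m2 : ρ' ∈ K⟮ρ⟯ ⊔ K⟮ρ'⟯ := (le_sup_right : K⟮ρ'⟯ ≤ _) (IntermediateField.mem_adjoin_simple_self K ρ')
    rw [show t = ρ' / ρ * ρ ^ i / ρ ^ j by simp only [ρ']; field_simp]
    exact div_mem (mul_mem (div_mem m2 m1) (pow_mem m1 i)) (pow_mem m1 j)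
  exact (of_algHom A K (IntermediateField.inclusion hle)).1 hsup

/-- An extension generated by finitely many roots is tame. -/
theorem tame_adjoin_roots (s : Finset Ω)
    (h : ∀ t ∈ s, ∃ (n : ℕ) (a : K), (n : ResidueField A) ≠ 0 ∧ a ≠ 0 ∧ t ^ n = algebraMap K Ω a) :
    ∃ (_ : FiniteDimensional K (IntermediateField.adjoin K (s : Set Ω)))
      (_ : Algebra.IsSeparable K (IntermediateField.adjoin K (s : Set Ω))),
      Tame A K (IntermediateField.adjoin K (s : Set Ω)) := by
  classical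
  induction s using Finset.induction_on with
  | empty =>
    obtain ⟨h1, h2⟩ := simple_root A K (1 : Ω) 1 (by simp) 1 one_ne_zero (by simp)
    haveI := h1; haveI := h2
    have hle : IntermediateField.adjoin K ((∅ : Finset Ω) : Set Ω) ≤ K⟮(1 : Ω)⟯ := by simp
    haveI : FiniteDimensional K (IntermediateField.adjoin K ((∅ : Finset Ω) : Set Ω)) :=
      FiniteDimensional.of_injective (IntermediateField.inclusion hle).toLinearMap (IntermediateField.inclusion hle).injective
    haveI : Algebra.IsSeparable K (IntermediateField.adjoin K ((∅ : Finset Ω) : Set Ω)) :=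
      Algebra.IsSeparable.of_algHom K _ (IntermediateField.inclusion hle)
    exact ⟨inferInstance, inferInstance, (of_algHom A K (IntermediateField.inclusion hle)).1
      (tame_root A K (1 : Ω) 1 (by simp) 1 one_ne_zero (by simp))⟩
  | insert t s hts ih =>
    obtain ⟨h1, h2, h3⟩ := ih fun x hx => h x (Finset.mem_insert_of_mem hx)
    obtain ⟨n, a, hn, ha, ht⟩ := h t (Finset.mem_insert_self t s)
    obtain ⟨g1, g2⟩ := simple_root A K t n hn a ha ht
    haveI := h1; haveI := h2; haveI := g1; haveI := g2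
    rw [Finset.coe_insert, Set.insert_eq, IntermediateField.adjoin_union]
    exact ⟨IntermediateField.finiteDimensional_sup _ _, IntermediateField.isSeparable_sup K Ω _ _,
      (sup_props A K K⟮t⟯ (IntermediateField.adjoin K (s : Set Ω))).1 (tame_root A K t n hn a ha ht) h3⟩

end Groth.Agent.TameAbh
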