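import Mathlib
import Groth.Prelude.Def_SGA1
import Groth.Agent.TameAbh.Radical

/-! Kummer algebras are tame along the branch divisors. -/

set_option autoImplicit false
set_option linter.all false
universe u
open IsLocalRing

noncomputable section

namespace Groth.Agent.TameAbh

/-- Linearly independent cotangent vectors are nonzero. -/
theorem param_ne_zero {A : Type u} [CommRing A] [IsLocalRing A] {r : ℕ} {f : Fin r → A}
    (hm : ∀ i, f i ∈ maximalIdeal A)
    (hf : LinearIndependent (ResidueField A) (fun i => (maximalIdeal A).toCotangent ⟨f i, hm i⟩)) (i : Fin r) :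
    f i ≠ 0 := fun h => hf.ne_zero i (by
  show (maximalIdeal A).toCotangent ⟨f i, hm i⟩ = 0
  rw [show (⟨f i, hm i⟩ : maximalIdeal A) = 0 from Subtype.ext h, map_zero])

/-- Localization at a nonzero principal prime of a Noetherian domain is a DVR. -/
theorem dvr_localization_span (A : Type u) [CommRing A] [IsDomain A] [IsNoetherianRing A] (f : A) (hf : f ≠ 0)
    [(Ideal.span {f}).IsPrime] : IsDiscreteValuationRing (Localization.AtPrime (Ideal.span {f})) := by
  have hm : maximalIdeal (Localization.AtPrime (Ideal.span {f})) =
      Ideal.span {algebraMap A (Localization.AtPrime (Ideal.span {f})) f} := by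
    rw [← Localization.AtPrime.map_eq_maximalIdeal, Ideal.map_span, Set.image_singleton]
  haveI : IsNoetherianRing (Localization.AtPrime (Ideal.span {f})) :=
    IsLocalization.isNoetherianRing (Ideal.span {f}).primeCompl _ inferInstance
  haveI : IsDomain (Localization.AtPrime (Ideal.span {f})) := inferInstance
  haveI : IsPrincipalIdealRing (Localization.AtPrime (Ideal.span {f})) :=
    ((tfae_of_isNoetherianRing_of_isLocalRing_of_isDomain (R := Localization.AtPrime (Ideal.span {f}))).out 4 0).1
      (show (maximalIdeal _).IsPrincipal from ⟨⟨_, hm⟩⟩)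
  refine { not_a_field' := fun h => ?_ }
  rw [hm, Ideal.span_singleton_eq_bot] at h
  exact hf (IsLocalization.injective (Localization.AtPrime (Ideal.span {f}))
    (Ideal.primeCompl_le_nonZeroDivisors (Ideal.span {f})) (h.trans (map_zero _).symm))

theorem kummer_tame (A : Type u) [CommRing A] [IsDomain A] [IsNoetherianRing A] [IsLocalRing A] (r : ℕ)
    (f : Fin r → A) (hf0 : ∀ i, f i ≠ 0) [∀ i, (Ideal.span {f i}).IsPrime] (n : Fin r → ℕ)
    (hn : ∀ i, IsUnit (n i : A)) :
    SGA1.IsTameAlong f (algebraMap A (SGA1.kummerAlg A f n)) := by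
  classical
  intro i q _ hq
  let B := SGA1.kummerAlg A f n
  let P := Ideal.span {f i}
  haveI := dvr_localization_span A (f i) (hf0 i)
  haveI : IsDomain (Localization.AtPrime P) := inferInstance
  let K := FractionRing A
  let L := q.ResidueField
  let g : Localization.AtPrime P →+* L := SGA1.genericResidueMap (algebraMap A B) P q hq
  have hgA : ∀ a, g (algebraMap A _ a) = algebraMap B L (algebraMap A B a) := fun a =>
    IsLocalization.lift_eq _ a
  letI : Algebra (Localization.AtPrime P) K :=
    (IsLocalization.lift (M := P.primeCompl) (S := Localization.AtPrime P) (g := algebraMap A K)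
      (fun y => isUnit_iff_ne_zero.2 fun h => nonZeroDivisors.ne_zero (Ideal.primeCompl_le_nonZeroDivisors P y.2)
        (IsFractionRing.injective A K (h.trans (map_zero _).symm)))).toAlgebra
  haveI : IsScalarTower A (Localization.AtPrime P) K :=
    IsScalarTower.of_algebraMap_eq fun a => (IsLocalization.lift_eq _ a).symm
  haveI : IsFractionRing (Localization.AtPrime P) K :=
    IsFractionRing.isFractionRing_of_isDomain_of_isLocalization P.primeCompl (Localization.AtPrime P) K
  have hinjAL : Function.Injective ((algebraMap B L).comp (algebraMap A B)) := by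
    rw [RingHom.injective_iff_ker_eq_bot, ← RingHom.comap_ker, Ideal.ker_algebraMap_residueField, hq]
  let iK : K →+* L := IsFractionRing.lift hinjAL
  letI : Algebra K L := iK.toAlgebra
  have hKL : ∀ a, algebraMap K L (algebraMap A K a) = algebraMap B L (algebraMap A B a) := fun a =>
    IsFractionRing.lift_algebraMap hinjAL a
  let T : Fin r → L := fun j => algebraMap B L (Ideal.Quotient.mk _ (MvPolynomial.X j))
  have hT : ∀ j, T j ^ n j = algebraMap K L (algebraMap A K (f j)) := fun j => by
    rw [hKL, ← map_pow, ← map_pow]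
    exact congrArg _ (Ideal.Quotient.eq.2 (Ideal.subset_span ⟨j, rfl⟩))
  have hgen : ∀ x : L, x ∈ IntermediateField.adjoin K (Set.range T) := by
    have hB : ∀ b : B, algebraMap B L b ∈ IntermediateField.adjoin K (Set.range T) := by
      intro b
      obtain ⟨b, rfl⟩ := Ideal.Quotient.mk_surjective b
      induction b using MvPolynomial.induction_on with
      | C a =>
        rw [show (Ideal.Quotient.mk _ (MvPolynomial.C a) : B) = algebraMap A B a from rfl, ← hKL]
        exact IntermediateField.algebraMap_mem _ _
      | add p p' hp hp' => rw [map_add, map_add]; exact add_mem hp hp'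
      | mul_X p j hp =>
        rw [map_mul, map_mul]
        exact mul_mem hp (IntermediateField.subset_adjoin _ _ ⟨j, rfl⟩)
    intro x
    obtain ⟨⟨b, s⟩, hx⟩ := IsLocalization.surj (nonZeroDivisors (B ⧸ q)) x
    obtain ⟨b, rfl⟩ := Ideal.Quotient.mk_surjective b
    obtain ⟨s', hs'⟩ := Ideal.Quotient.mk_surjective (s : B ⧸ q)
    have e1 : ∀ c : B, algebraMap (B ⧸ q) L (Ideal.Quotient.mk q c) = algebraMap B L c := fun c =>
      (IsScalarTower.algebraMap_apply B (B ⧸ q) L c).symm
    have hs0 : algebraMap B L s' ≠ 0 := by
      rw [← e1, hs']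
      exact fun h => nonZeroDivisors.ne_zero s.2 (IsFractionRing.injective (B ⧸ q) L (h.trans (map_zero _).symm))
    rw [e1, ← hs', e1] at hx
    rw [show x = algebraMap B L b / algebraMap B L s' from (eq_div_iff hs0).2 hx]
    exact div_mem (hB b) (hB s')
  have htop : IntermediateField.adjoin K (Set.range T) = ⊤ := eq_top_iff.2 fun x _ => hgen x
  let Ω := AlgebraicClosure L
  let ι : L →ₐ[K] Ω := IsScalarTower.toAlgHom K L Ω
  let s : Finset Ω := (Finset.univ : Finset (Fin r)).image fun j => ι (T j)
  obtain ⟨h1, h2, h3⟩ := tame_adjoin_roots (Localization.AtPrime P) K s (fun t ht => by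
    obtain ⟨j, -, rfl⟩ := Finset.mem_image.1 ht
    refine ⟨n j, algebraMap A K (f j), ?_, fun h => hf0 j (IsFractionRing.injective A K (h.trans (map_zero _).symm)), ?_⟩
    · rw [← map_natCast ((residue (Localization.AtPrime P)).comp (algebraMap A _)) (n j)]
      exact ((hn j).map _).ne_zero
    · rw [← map_pow, hT, AlgHom.commutes])
  haveI := h1; haveI := h2
  have hrange : ∀ x : L, ι x ∈ IntermediateField.adjoin K (s : Set Ω) := fun x => by
    have hx : ι x ∈ (IntermediateField.adjoin K (Set.range T)).map ι := ⟨x, hgen x, rfl⟩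
    rw [IntermediateField.adjoin_map] at hx
    refine IntermediateField.adjoin.mono K _ _ ?_ hx
    rintro _ ⟨_, ⟨j, rfl⟩, rfl⟩
    exact Finset.mem_coe.2 (Finset.mem_image.2 ⟨j, Finset.mem_univ _, rfl⟩)
  let fL : L →ₐ[K] IntermediateField.adjoin K (s : Set Ω) := AlgHom.codRestrict ι _ hrange
  have hmap : (algebraMap K L).comp (algebraMap (Localization.AtPrime P) K) = g :=
    IsLocalization.ringHom_ext P.primeCompl (RingHom.ext fun a => by
      show algebraMap K L (algebraMap (Localization.AtPrime P) K (algebraMap A _ a)) = g (algebraMap A _ a)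
      rw [← IsScalarTower.algebraMap_apply A (Localization.AtPrime P) K, hKL, hgA])
  have := (of_algHom (Localization.AtPrime P) K fL).1 h3
  rwa [Tame, hmap] at this

end Groth.Agent.TameAbh
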