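import Mathlib
import Groth.Prelude.Def_EtRam
import Groth.Agent.TameAbh.Dominate
import Groth.Agent.TameAbh.Compositum

/-! Galois extensions of degree invertible in the residue field are tame. -/

set_option autoImplicit false
set_option linter.all false
universe u
open IsLocalRing

noncomputable section

namespace Groth.Agent.TameAbh

theorem isSeparable_of_finrank (F E : Type u) [Field F] [Field E] [Algebra F E] [FiniteDimensional F E]
    (h : (Module.finrank F E : F) ≠ 0) : Algebra.IsSeparable F E := by
  obtain ⟨q, hq⟩ := ExpChar.exists F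
  haveI := hq
  rw [isSeparable_iff_finInsepDegree_eq_one]
  obtain ⟨n, hn⟩ := finInsepDegree_eq_pow F E q
  rcases hq with _ | ⟨hprime⟩
  · rw [hn, one_pow]
  rcases Nat.eq_zero_or_pos n with rfl | hpos
  · rw [hn, pow_zero]
  exfalso
  refine h ?_
  rw [CharP.cast_eq_zero_iff F q, ← Field.finSepDegree_mul_finInsepDegree F E, hn]
  exact dvd_mul_of_dvd_right (dvd_pow_self q hpos.ne') _

theorem efg_dvd {A C : Type u} [CommRing A] [IsDomain A] [CommRing C] [IsDomain C] [Algebra A C] [Module.Finite A C]
    [Module.Flat A C] {G : Type u} [Group G] [Finite G] [MulSemiringAction G C] [IsGaloisGroup G A C]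
    (p : Ideal A) [p.IsPrime] (P : Ideal C) [P.IsPrime] [P.LiesOver p] :
    P.ramificationIdx A ∣ Nat.card G ∧ P.inertiaDeg A ∣ Nat.card G := by
  have hefg := Ideal.ncard_primesOver_mul_ramificationIdxIn_mul_inertiaDegIn p C G
  rw [Ideal.ramificationIdxIn_eq_ramificationIdx p P G, Ideal.inertiaDegIn_eq_inertiaDeg p P G] at hefg
  rw [← hefg]
  exact ⟨(dvd_mul_right _ _).trans (dvd_mul_left _ _), (dvd_mul_left _ _).trans (dvd_mul_left _ _)⟩

/-- A DVR between a Dedekind domain and its fraction field is a localization at a prime. -/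
theorem prime_of_valuation {A C L : Type u} [CommRing A] [IsDomain A] [IsDiscreteValuationRing A] [CommRing C]
    [IsDomain C] [IsDedekindDomain C] [Algebra A C] [Module.Finite A C] (hAinj : Function.Injective (algebraMap A C))
    [Field L] [Algebra C L] [IsFractionRing C L] (V : ValuationSubring L) [IsDiscreteValuationRing V] [Algebra A V]
    [IsLocalHom (algebraMap A V)] (ι : C →+* V) (hι : ∀ c, (ι c : L) = algebraMap C L c)
    (hιA : ∀ a, ι (algebraMap A C a) = algebraMap A V a) :
    ∃ (P : Ideal C) (_ : P.IsPrime) (_ : P.LiesOver (maximalIdeal A)),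
      Ideal.ramificationIdx' (maximalIdeal A) (maximalIdeal V) = P.ramificationIdx A ∧
      FiniteDimensional (ResidueField A) (ResidueField V) ∧
      Module.finrank (ResidueField A) (ResidueField V) = P.inertiaDeg A := by
  classical
  let P : Ideal C := (maximalIdeal V).comap ι
  haveI : P.IsPrime := Ideal.IsPrime.comap _
  haveI hPo : P.LiesOver (maximalIdeal A) := by
    refine ⟨?_⟩
    rw [Ideal.under, Ideal.comap_comap, show ι.comp (algebraMap A C) = algebraMap A V from RingHom.ext hιA]
    exact (IsLocalRing.maximalIdeal_comap (algebraMap A V)).symm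
  obtain ⟨π, hπ⟩ := IsDiscreteValuationRing.exists_irreducible A
  have hπ0 : algebraMap A C π ≠ 0 := fun h => hπ.ne_zero
    (hAinj (h.trans (map_zero _).symm))
  have hP0 : P ≠ ⊥ := fun h0 => hπ0 (by
    rw [← Ideal.mem_bot, ← h0, Ideal.mem_comap, hιA]
    exact map_nonunit (algebraMap A V) π hπ.not_isUnit)
  haveI : P.IsMaximal := Ideal.IsPrime.isMaximal ‹_› hP0
  let Q := Localization.AtPrime P
  haveI : IsDiscreteValuationRing Q := IsLocalization.AtPrime.isDiscreteValuationRing_of_dedekind_domain C hP0 Q
  have hunit : ∀ s : P.primeCompl, IsUnit (ι s) := fun s => by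
    by_contra hnu; exact s.2 hnu
  let j : Q →+* V := IsLocalization.lift (S := Q) hunit
  have hj : ∀ c, j (algebraMap C Q c) = ι c := fun c => IsLocalization.lift_eq hunit c
  have hjmk : ∀ (c : C) (s : P.primeCompl), j (IsLocalization.mk' Q c s) * ι s = ι c := fun c s => by
    rw [← hj, ← hj, ← map_mul, IsLocalization.mk'_spec]
  have hιinj : ∀ c, ι c = 0 → c = 0 := fun c h => IsFractionRing.injective C L (by rw [map_zero, ← hι, h]; rfl)
  have hjinj : Function.Injective j := by
    rw [injective_iff_map_eq_zero]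
    intro q hq
    obtain ⟨c, s, rfl⟩ := IsLocalization.exists_mk'_eq P.primeCompl q
    have h := hjmk c s
    rw [hq, zero_mul] at h
    have : c = 0 := hιinj c h.symm
    rw [this, IsLocalization.mk'_zero]
  have hjloc : ∀ q : Q, IsUnit (j q) → IsUnit q := fun q hu => by
    obtain ⟨c, s, rfl⟩ := IsLocalization.exists_mk'_eq P.primeCompl q
    refine (IsLocalization.AtPrime.isUnit_mk'_iff Q P c s).2 fun hc => ?_
    exact hc ((hjmk c s) ▸ hu.mul (hunit s))
  have hjsurj : Function.Surjective j := by
    intro v
    rcases eq_or_ne v 0 with rfl | hv0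
    · exact ⟨0, map_zero j⟩
    obtain ⟨a, b, hb, hab⟩ := IsFractionRing.div_surjective (A := C) (v : L)
    have hb' : ι b ≠ 0 := fun h => nonZeroDivisors.ne_zero hb (hιinj b h)
    have hvb : v * ι b = ι a := Subtype.ext (by
      show (v : L) * (ι b : L) = (ι a : L)
      rw [← hab, hι, hι]
      exact div_mul_cancel₀ _ (fun h => hb' (Subtype.ext (by rw [hι, h]; rfl))))
    have hb0 : algebraMap C Q b ≠ 0 := fun h => hb' (by rw [← hj, h, map_zero])
    obtain ⟨ϖ, hϖ⟩ := IsDiscreteValuationRing.exists_irreducible Q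
    rcases ValuationRing.cond (algebraMap C Q a) (algebraMap C Q b) with ⟨c, hc | hc⟩
    · by_cases hcu : IsUnit c
      · obtain ⟨c', hc'⟩ := hcu.exists_right_inv
        refine ⟨c', mul_right_cancel₀ hb' ?_⟩
        rw [hvb, ← hj, ← hj, ← map_mul, ← hc, ← mul_assoc, mul_comm c' (algebraMap C Q a), mul_assoc,
          mul_comm c' c, hc', mul_one]
      · exfalso
        have h1 : v * j c = 1 := by
          have ha0 : j (algebraMap C Q a) ≠ 0 := fun h => mul_ne_zero hv0 hb' (by rw [hvb, ← hj, h])
          refine mul_left_cancel₀ ha0 ?_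
          rw [mul_one, mul_left_comm, ← map_mul, hc, hj, hj, hvb]
        exact hcu (hjloc c (IsUnit.of_mul_eq_one v (by rw [mul_comm]; exact h1)))
    · exact ⟨c, mul_right_cancel₀ hb' (by rw [hvb, ← hj, ← hj, ← map_mul, mul_comm, hc])⟩
  -- ramification
  have he : Ideal.ramificationIdx' (maximalIdeal A) (maximalIdeal V) = P.ramificationIdx A := by
    rw [Ideal.ramificationIdx_eq (maximalIdeal A) P]
    have hQ0 : (maximalIdeal A).map (algebraMap A Q) ≠ ⊥ := fun h0 => by
      have : algebraMap A Q π = 0 := by rw [← Ideal.mem_bot, ← h0]; exact Ideal.mem_map_of_mem _ hπ.not_isUnit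
      rw [IsScalarTower.algebraMap_apply A C Q] at this
      exact hπ0 (hιinj _ ((hj _).symm.trans ((congrArg j this).trans (map_zero j))))
    obtain ⟨ϖ, hϖ⟩ := IsDiscreteValuationRing.exists_irreducible Q
    obtain ⟨n, hn⟩ := IsDiscreteValuationRing.ideal_eq_span_pow_irreducible hQ0 hϖ
    have hn' : (maximalIdeal A).map (algebraMap A Q) = maximalIdeal Q ^ n := by
      rw [hn, (IsDiscreteValuationRing.irreducible_iff_uniformizer ϖ).1 hϖ, Ideal.span_singleton_pow]
    rw [hn', (inferInstance : IsDiscreteValuationRing Q).length_quotient_pow_maximalIdeal, ENat.toNat_natCast]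
    have hmax : (maximalIdeal Q).map j = maximalIdeal V := by
      refine le_antisymm (Ideal.map_le_iff_le_comap.2 fun q hq => fun hu => hq (hjloc q hu)) fun v hv => ?_
      obtain ⟨q, rfl⟩ := hjsurj v
      exact Ideal.mem_map_of_mem j fun hu => hv (hu.map j)
    refine ramificationIdx'_eq ?_
    rw [← hmax, ← Ideal.map_pow, ← hn', Ideal.map_map]
    congr 1
    exact RingHom.ext fun a => by rw [RingHom.comp_apply, IsScalarTower.algebraMap_apply A C Q, hj, hιA]
  -- residue fields
  letI : Algebra (ResidueField A) (C ⧸ P) := inferInstanceAs (Algebra (A ⧸ maximalIdeal A) (C ⧸ P))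
  haveI : IsScalarTower A (ResidueField A) (C ⧸ P) := inferInstanceAs (IsScalarTower A (A ⧸ maximalIdeal A) (C ⧸ P))
  have hfin : FiniteDimensional (ResidueField A) (ResidueField V) ∧
      Module.finrank (ResidueField A) (ResidueField V) = P.inertiaDeg A := by
    rw [Ideal.inertiaDeg_eq_of_isMaximal (maximalIdeal A) P]
    let ψ : C ⧸ P →+* ResidueField V := Ideal.Quotient.lift P ((residue V).comp ι)
      fun c hc => (residue_eq_zero_iff _).2 hc
    have hψ : ∀ a, ψ (algebraMap (ResidueField A) (C ⧸ P) a) = algebraMap (ResidueField A) (ResidueField V) a := by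
      intro a
      obtain ⟨a, rfl⟩ := residue_surjective a
      exact congrArg (residue V) (hιA a)
    let ψ' : (C ⧸ P) →ₐ[ResidueField A] ResidueField V := { ψ with commutes' := hψ }
    have hb : Function.Bijective ψ' := by
      constructor
      · letI := Ideal.Quotient.field P
        exact ψ.injective
      · intro z
        obtain ⟨v, rfl⟩ := residue_surjective z
        obtain ⟨q, rfl⟩ := hjsurj v
        obtain ⟨c, s, rfl⟩ := IsLocalization.exists_mk'_eq P.primeCompl q
        letI := Ideal.Quotient.field P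
        have hs : Ideal.Quotient.mk P (s : C) ≠ 0 := fun h => s.2 (Ideal.Quotient.eq_zero_iff_mem.1 h)
        refine ⟨Ideal.Quotient.mk P c * (Ideal.Quotient.mk P (s : C))⁻¹, ?_⟩
        show ψ _ = _
        rw [map_mul, map_inv₀]
        have h := congrArg (residue V) (hjmk c s)
        rw [map_mul] at h
        have hs' : residue V (ι s) ≠ 0 := ((hunit s).map (residue V)).ne_zero
        show residue V (ι c) * (residue V (ι s))⁻¹ = _
        rw [← h, mul_assoc, mul_inv_cancel₀ hs', mul_one]
    haveI : Module.Finite A (C ⧸ P) := inferInstance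
    haveI : Module.Finite (ResidueField A) (C ⧸ P) := Module.Finite.of_restrictScalars_finite A _ _
    let eψ := AlgEquiv.ofBijective ψ' hb
    exact ⟨Module.Finite.equiv eψ.toLinearEquiv, eψ.toLinearEquiv.finrank_eq.symm⟩
  exact ⟨P, inferInstance, hPo, he, hfin.1, hfin.2⟩

variable {A K L : Type u} [CommRing A] [IsDomain A] [IsDiscreteValuationRing A] [Field K] [Algebra A K]
  [IsFractionRing A K] [Field L] [Algebra K L] [FiniteDimensional K L] [IsGalois K L]

set_option maxHeartbeats 1000000 in
theorem galois_efg (V : ValuationSubring L) [Algebra A V] [IsLocalHom (algebraMap A V)]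
    [IsDiscreteValuationRing V] (hA : ∀ a, (algebraMap A V a : L) = algebraMap K L (algebraMap A K a)) :
    Ideal.ramificationIdx' (maximalIdeal A) (maximalIdeal V) ∣ Nat.card (L ≃ₐ[K] L) ∧
      FiniteDimensional (ResidueField A) (ResidueField V) ∧
      Module.finrank (ResidueField A) (ResidueField V) ∣ Nat.card (L ≃ₐ[K] L) := by
  classical
  letI : Algebra A L := ((algebraMap K L).comp (algebraMap A K)).toAlgebra
  haveI : IsScalarTower A K L := IsScalarTower.of_algebraMap_eq fun _ => rfl
  let C := integralClosure A L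
  haveI : IsDedekindDomain C := integralClosure.isDedekindDomain A K L
  haveI : IsFractionRing C L := integralClosure.isFractionRing_of_finite_extension K L
  haveI : Module.Finite A C := IsIntegralClosure.finite A K L C
  letI : MulSemiringAction (L ≃ₐ[K] L) C := IsIntegralClosure.MulSemiringAction A K L C
  haveI : SMulDistribClass (L ≃ₐ[K] L) C L := ⟨fun g b x => by
    show g ((b : L) * x) = ((g • b : C) : L) * g x
    rw [map_mul]
    congr 1
    exact (algebraMap_galRestrict_apply A (K := K) (L := L) (B := C) g b).symm⟩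
  haveI : IsGaloisGroup (L ≃ₐ[K] L) A C := IsGaloisGroup.of_isFractionRing (L ≃ₐ[K] L) A C K L
  haveI : Module.IsTorsionFree A C := Module.isTorsionFree_iff_algebraMap_injective.2 fun a b h =>
    IsFractionRing.injective A K ((algebraMap K L).injective (congrArg Subtype.val h))
  haveI : Module.Free A C := Module.free_of_finite_type_torsion_free'
  have hCV : ∀ c : C, (c : L) ∈ V := fun c => by
    have hc : IsIntegral A (c : L) := c.2
    obtain ⟨p, hp, hpc⟩ := hc
    have hint : IsIntegral V (c : L) := ⟨p.map (algebraMap A V), hp.map _, by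
      rw [Polynomial.eval₂_map, show (algebraMap V L).comp (algebraMap A V) = algebraMap A L from RingHom.ext hA]
      exact hpc⟩
    obtain ⟨y, hy⟩ := IsIntegrallyClosed.isIntegral_iff.1 hint
    exact hy ▸ y.2
  let ι : C →+* V := RingHom.codRestrict C.val.toRingHom V hCV
  have hιA : ∀ a, ι (algebraMap A C a) = algebraMap A V a := fun a => Subtype.ext (hA a).symm
  haveI : IsLocalHom (algebraMap A V) := ‹_›
  obtain ⟨P, _, _, he, hf₁, hf₂⟩ := prime_of_valuation (A := A) (C := C) (L := L)
    (fun x y h => IsFractionRing.injective A K ((algebraMap K L).injective (congrArg Subtype.val h)))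
    V ι (fun c => rfl) hιA
  obtain ⟨h₁, h₂⟩ := efg_dvd (A := A) (C := C) (G := L ≃ₐ[K] L) (maximalIdeal A) P
  exact ⟨he ▸ h₁, hf₁, hf₂ ▸ h₂⟩

/-- A Galois extension of degree invertible in the residue field is tame. -/
theorem isTamelyRamified_of_galois (hn : (Nat.card (L ≃ₐ[K] L) : ResidueField A) ≠ 0) :
    EtRam.IsTamelyRamified A ((algebraMap K L).comp (algebraMap A K)) := by
  intro V hV
  intro hloc
  letI : Algebra A V := (RingHom.codRestrict ((algebraMap K L).comp (algebraMap A K)) V hV.1).toAlgebra
  haveI : IsLocalHom (algebraMap A V) := EtRamTower.isLocalHom_codRestrict _ _ hV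
  haveI := isDVR_of_dominates (A := A) (K := K) V hV
  obtain ⟨he, hfin, hf⟩ := galois_efg (A := A) (K := K) V fun a => rfl
  haveI := hfin
  refine ⟨isSeparable_of_finrank _ _ fun h0 => hn ?_, fun p hp hpA hdvd => hn ?_⟩
  · obtain ⟨c, hc⟩ := hf
    rw [hc, Nat.cast_mul, h0, zero_mul]
  · exact (CharP.cast_eq_zero_iff (ResidueField A) p _).2 (hdvd.trans he)

end Groth.Agent.TameAbh
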