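import Mathlib
import Groth.Prelude.Def_PiSp
import Groth.Agent.Weighting.Geom

/-! Residue field extensions in Galois covers. -/

set_option autoImplicit false
set_option linter.all false
set_option backward.isDefEq.respectTransparency false
universe u
open AlgebraicGeometry CategoryTheory IsLocalRing

noncomputable section

namespace Groth.Agent.TameAbh

theorem galois_residueField_aux {W X : Scheme.{u}} (f : W ⟶ X) [IsFinite f] [Etale f] {G : Type*} [Group G]
    (act : G → (W ⟶ W)) (act_one : act 1 = 𝟙 W) (act_mul : ∀ a b, act (a * b) = act b ≫ act a)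
    (act_over : ∀ a, act a ≫ f = f)
    (htrans : ∀ (Ω : Type u) [Field Ω] [IsAlgClosed Ω] (s t : Spec (CommRingCat.of Ω) ⟶ W), s ≫ f = t ≫ f →
      ∃ a, s ≫ act a = t) (z : W) :
    letI := (f.residueFieldMap z).hom.toAlgebra
    FiniteDimensional (X.residueField (f z)) (W.residueField z) ∧
    IsGalois (X.residueField (f z)) (W.residueField z) ∧
    (Finite G → Nat.card (W.residueField z ≃ₐ[X.residueField (f z)] W.residueField z) ∣ Nat.card G) := by
  classical
  let rfm := f.residueFieldMap z
  letI := rfm.hom.toAlgebra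
  haveI : Algebra.IsSeparable (X.residueField (f z)) (W.residueField z) := inferInstance
  haveI hfin : FiniteDimensional (X.residueField (f z)) (W.residueField z) :=
    RingHom.finite_algebraMap.1 (Weighting.finite_residueFieldMap f z)
  let Ω := AlgebraicClosure (W.residueField z)
  let p := W.fromSpecResidueField z
  let ι : W.residueField z ⟶ CommRingCat.of Ω := CommRingCat.ofHom (algebraMap (W.residueField z) Ω)
  have hp : p ≫ f = Spec.map rfm ≫ X.fromSpecResidueField (f z) :=
    (Scheme.Hom.SpecMap_residueFieldMap_fromSpecResidueField f z).symm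
  have hex : ∀ σ : G, (act σ) z = z →
      ∃ g : W.residueField z ≃ₐ[X.residueField (f z)] W.residueField z,
        Spec.map (CommRingCat.ofHom g.toAlgHom.toRingHom) ≫ p = p ≫ (act σ) := by
    intro σ hσ
    let g₀ : W.residueField z ⟶ W.residueField z :=
      (W.residueFieldCongr hσ.symm).hom ≫ (act σ).residueFieldMap z
    have hg : Spec.map g₀ ≫ p = p ≫ (act σ) := by
      rw [Spec.map_comp, Category.assoc, Scheme.residueFieldCongr_fromSpecResidueField,
        Scheme.Hom.SpecMap_residueFieldMap_fromSpecResidueField]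
    have hcomm : rfm ≫ g₀ = rfm := by
      refine Spec.map_inj.1 ?_
      rw [← cancel_mono (X.fromSpecResidueField (f z)), Spec.map_comp, Category.assoc, ← hp,
        ← Category.assoc, hg, Category.assoc]
      congr 1
      exact act_over σ
    let ga : W.residueField z →ₐ[X.residueField (f z)] W.residueField z :=
      { g₀.hom with commutes' := fun r => congrArg (fun f => f.hom r) hcomm }
    exact ⟨AlgEquiv.ofBijective ga (Algebra.IsAlgebraic.algHom_bijective ga), hg⟩
  have huniq : ∀ (g g' : W.residueField z ≃ₐ[X.residueField (f z)] W.residueField z),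
      Spec.map (CommRingCat.ofHom g.toAlgHom.toRingHom) ≫ p = Spec.map (CommRingCat.ofHom g'.toAlgHom.toRingHom) ≫ p →
      g = g' := by
    intro g g' h
    rw [cancel_mono] at h
    exact AlgEquiv.ext fun x => congrArg (fun f => f.hom x) (Spec.map_inj.1 h)
  let ξ : Spec (CommRingCat.of Ω) ⟶ X := (Spec.map ι ≫ p) ≫ f
  have hsurj : ∀ τ : W.residueField z →ₐ[X.residueField (f z)] Ω,
      ∃ (σ : G) (h : (act σ) z = z)
        (g : W.residueField z ≃ₐ[X.residueField (f z)] W.residueField z),
        Spec.map (CommRingCat.ofHom g.toAlgHom.toRingHom) ≫ p = p ≫ (act σ) ∧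
          ∀ x, algebraMap (W.residueField z) Ω (g x) = τ x := by
    intro τ
    let τ' : W.residueField z ⟶ CommRingCat.of Ω := CommRingCat.ofHom τ.toRingHom
    have hτ : (Spec.map τ' ≫ p) ≫ f = ξ := by
      have hc : rfm ≫ τ' = rfm ≫ ι := CommRingCat.hom_ext (RingHom.ext fun r =>
        (τ.commutes r).trans (IsScalarTower.algebraMap_apply (X.residueField (f z)) (W.residueField z) Ω r))
      simp only [ξ, Category.assoc, hp]
      rw [← Spec.map_comp_assoc, ← Spec.map_comp_assoc, hc]
    obtain ⟨σ, hσ'⟩ := htrans Ω (Spec.map ι ≫ p) (Spec.map τ' ≫ p) hτ.symm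
    have hz : (act σ) z = z := by
      have h := congrArg (fun f => f.base (closedPoint Ω)) hσ'
      simp only [Scheme.Hom.comp_base, TopCat.comp_app] at h
      rw [Scheme.fromSpecResidueField_apply, Scheme.fromSpecResidueField_apply] at h
      exact h
    obtain ⟨g, hg⟩ := hex σ hz
    refine ⟨σ, hz, g, hg, fun x => ?_⟩
    rw [Category.assoc, ← hg, ← Spec.map_comp_assoc, cancel_mono] at hσ'
    exact congrArg (fun f => f.hom x) (Spec.map_inj.1 hσ')
  have hinj : Function.Injective (fun (g : W.residueField z ≃ₐ[X.residueField (f z)] W.residueField z) =>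
      (IsScalarTower.toAlgHom (X.residueField (f z)) (W.residueField z) Ω).comp g.toAlgHom) := by
    intro g g' h
    exact AlgEquiv.ext fun x => (algebraMap (W.residueField z) Ω).injective (DFunLike.congr_fun h x)
  have hbij : Function.Bijective (fun (g : W.residueField z ≃ₐ[X.residueField (f z)] W.residueField z) =>
      (IsScalarTower.toAlgHom (X.residueField (f z)) (W.residueField z) Ω).comp g.toAlgHom) := by
    refine ⟨hinj, fun τ => ?_⟩
    obtain ⟨σ, -, g, -, hg⟩ := hsurj τ
    exact ⟨g, AlgHom.ext hg⟩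
  have hgal : IsGalois (X.residueField (f z)) (W.residueField z) := by
    refine IsGalois.of_card_aut_eq_finrank _ _ ?_
    rw [Nat.card_eq_of_bijective _ hbij, ← Field.finSepDegree_eq_of_isAlgClosed _ _ Ω,
      Field.finSepDegree_eq_finrank_of_isSeparable]
  refine ⟨hfin, hgal, fun hA => ?_⟩
  let D : Subgroup (G) :=
    { carrier := {σ | (act σ) z = z}
      one_mem' := by show act 1 z = z; rw [act_one]; rfl
      mul_mem' := fun {a b} (ha : act a z = z) (hb : act b z = z) => by
        show act (a * b) z = z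
        rw [act_mul, Scheme.Hom.comp_apply, hb, ha]
      inv_mem' := fun {a} (ha : act a z = z) => by
        show act a⁻¹ z = z
        conv_lhs => rw [← ha]
        rw [← Scheme.Hom.comp_apply, ← act_mul, inv_mul_cancel, act_one]; rfl }
  let gf : ∀ σ : G, σ ∈ D → W.residueField z ≃ₐ[X.residueField (f z)] W.residueField z :=
    fun σ h => (hex σ h).choose
  have hgf : ∀ σ h, Spec.map (CommRingCat.ofHom (gf σ h).toAlgHom.toRingHom) ≫ p = p ≫ (act σ) :=
    fun σ h => (hex σ h).choose_spec
  let φ : D →* (W.residueField z ≃ₐ[X.residueField (f z)] W.residueField z) :=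
    MonoidHom.mk' (fun σ => gf (σ⁻¹ : D) (σ⁻¹ : D).2) fun a b => by
      refine huniq _ _ ?_
      rw [hgf _ ((a * b)⁻¹ : D).2]
      rw [show (((a * b)⁻¹ : D) : G) = ((b⁻¹ : D) : G) * ((a⁻¹ : D) : G) by rw [mul_inv_rev]; rfl, act_mul,
        ← Category.assoc, ← hgf _ (a⁻¹ : D).2, Category.assoc, ← hgf _ (b⁻¹ : D).2, ← Spec.map_comp_assoc]
      congr 2
  refine (Subgroup.card_dvd_of_surjective φ fun g => ?_).trans (Subgroup.card_subgroup_dvd_card D)
  obtain ⟨σ, hz, g', hg', he⟩ := hsurj ((IsScalarTower.toAlgHom _ (W.residueField z) Ω).comp g.toAlgHom)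
  have hg'' : g' = g := hinj (AlgHom.ext he)
  refine ⟨(⟨σ, hz⟩ : D)⁻¹, huniq _ _ ?_⟩
  rw [← hg'', hg']
  refine (hgf _ ((⟨σ, hz⟩ : D)⁻¹⁻¹ : D).2).trans ?_
  rw [inv_inv]

theorem galois_residueField {X : Scheme.{u}} (Z : FEt.Cat X) (hZ : PiSp.IsGaloisCover Z) (z : Z.left) :
    letI := (Scheme.Hom.residueFieldMap (X := Z.left) (Y := X) Z.hom z).hom.toAlgebra
    FiniteDimensional (X.residueField ((Z.hom : Z.left ⟶ X) z)) (Z.left.residueField z) ∧
    IsGalois (X.residueField ((Z.hom : Z.left ⟶ X) z)) (Z.left.residueField z) ∧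
    (Finite (Aut Z) → Nat.card (Z.left.residueField z ≃ₐ[X.residueField ((Z.hom : Z.left ⟶ X) z)]
      Z.left.residueField z) ∣ Nat.card (Aut Z)) := by
  haveI : IsFinite (Z.hom : Z.left ⟶ X) := Z.prop.1
  haveI : Etale (Z.hom : Z.left ⟶ X) := Z.prop.2
  exact galois_residueField_aux (Z.hom : Z.left ⟶ X) (fun σ : Aut Z => σ.hom.left) rfl
    (fun a b => rfl) (fun σ => Over.w σ.hom.hom)
    (fun Ω _ _ s t h => by
      obtain ⟨σ, hσ⟩ := hZ.2 Ω (t ≫ Z.hom) ⟨s, h⟩ ⟨t, rfl⟩
      exact ⟨σ, congrArg Subtype.val hσ⟩) z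

end Groth.Agent.TameAbh
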