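import Mathlib
import Groth.Agent.TameAbh.Compositum

/-! Factors of `K' ⊗_K L`. -/

set_option autoImplicit false
set_option linter.all false
universe u
open IsLocalRing
open scoped TensorProduct

noncomputable section

namespace Groth.Agent.TameAbh

theorem factor_props {A B K L K' : Type u} [CommRing A] [IsDomain A] [IsDiscreteValuationRing A] [CommRing B]
    [IsDomain B] [IsDiscreteValuationRing B] [Algebra A B] [IsLocalHom (algebraMap A B)]
    (hinj : Function.Injective (algebraMap A B)) [Field K] [Field L] [Field K'] [Algebra A K] [IsFractionRing A K]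
    [Algebra B L] [IsFractionRing B L] [Algebra K L] [Algebra A L] [IsScalarTower A K L] [IsScalarTower A B L]
    [Algebra K K'] [FiniteDimensional K K'] (F : Type u) [Field F] [Algebra (K' ⊗[K] L) F]
    (hF : Function.Surjective (algebraMap (K' ⊗[K] L) F)) :
    (EtRam.IsTamelyRamified A ((algebraMap K K').comp (algebraMap A K)) →
      EtRam.IsTamelyRamified B ((algebraMap (K' ⊗[K] L) F).comp
        ((Algebra.TensorProduct.includeRight : L →ₐ[K] K' ⊗[K] L).toRingHom.comp (algebraMap B L)))) ∧
    (EtRam.IsUnramifiedExt A ((algebraMap K K').comp (algebraMap A K)) →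
      EtRam.IsUnramifiedExt B ((algebraMap (K' ⊗[K] L) F).comp
        ((Algebra.TensorProduct.includeRight : L →ₐ[K] K' ⊗[K] L).toRingHom.comp (algebraMap B L)))) := by
  letI : Algebra L F := ((algebraMap (K' ⊗[K] L) F).comp
    (Algebra.TensorProduct.includeRight : L →ₐ[K] K' ⊗[K] L).toRingHom).toAlgebra
  let φ : K' →+* F := (algebraMap (K' ⊗[K] L) F).comp (Algebra.TensorProduct.includeLeftRingHom)
  have hc : φ.comp (algebraMap K K') = (algebraMap L F).comp (algebraMap K L) := RingHom.ext fun k => by
    show algebraMap (K' ⊗[K] L) F ((Algebra.TensorProduct.includeLeft (S := K) : K' →ₐ[K] K' ⊗[K] L) (algebraMap K K' k)) =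
      algebraMap (K' ⊗[K] L) F ((Algebra.TensorProduct.includeRight : L →ₐ[K] K' ⊗[K] L) (algebraMap K L k))
    rw [AlgHom.commutes, AlgHom.commutes]
  have hsplit : ∀ (p : K') (q : L), algebraMap (K' ⊗[K] L) F (p ⊗ₜ q) = φ p * algebraMap L F q := fun p q => by
    show _ = algebraMap (K' ⊗[K] L) F (p ⊗ₜ[K] (1 : L)) * algebraMap (K' ⊗[K] L) F ((1 : K') ⊗ₜ[K] q)
    rw [← map_mul, Algebra.TensorProduct.tmul_mul_tmul, mul_one, one_mul]
  have hadj : Algebra.adjoin L (Set.range φ) = ⊤ := by
    rw [eq_top_iff]
    rintro x -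
    obtain ⟨t, rfl⟩ := hF x
    induction t with
    | zero => rw [map_zero]; exact zero_mem _
    | tmul p q =>
      rw [hsplit]
      exact mul_mem (Algebra.subset_adjoin ⟨p, rfl⟩) (Subalgebra.algebraMap_mem _ q)
    | add p q hp hq => rw [map_add]; exact add_mem hp hq
  haveI : FiniteDimensional L F := finite_of_adjoin (K := K) φ hc hadj
  exact tame_unramified_compositum hinj
    (fun a => by rw [← IsScalarTower.algebraMap_apply A K L, ← IsScalarTower.algebraMap_apply A B L])
    φ hc (subfield_closure_eq_top_of_adjoin φ hadj)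

end Groth.Agent.TameAbh
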